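import Cfsg.Agent.Lib.ExtFieldMax.TensorCore
import Cfsg.Agent.Lib.TransvMax.QuadOmega

/-!
A quadratic space written as the tensor product of two alternating spaces.
-/

set_option autoImplicit false

namespace Cfsg.Agent.SympTensor

open Module Submodule
open Cfsg.Agent Cfsg.Agent.TransvMax Cfsg.Agent.ExtFieldMax

variable {F : Type*} [Field F]

section Alt

variable {n : ℕ}

/-- An alternating form without radical. -/
structure IsAlt (B : LinearMap.BilinForm F (Fin n → F)) : Prop where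
  self : ∀ c, B c c = 0
  nd : ∀ c, (∀ d, B c d = 0) → c = 0

variable {B : LinearMap.BilinForm F (Fin n → F)}

theorem IsAlt.swap (h : IsAlt B) (x y : Fin n → F) : B x y = -B y x := by
  have h' := h.self (x + y)
  simp only [map_add, LinearMap.add_apply, h.self, zero_add, add_zero] at h'
  linear_combination h'

theorem IsAlt.exists_rep (h : IsAlt B) (f : (Fin n → F) →ₗ[F] F) : ∃ p, ∀ d, B p d = f d := by
  have hinj : Function.Injective B := (injective_iff_map_eq_zero B).2 fun c hc =>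
    h.nd c fun d => by rw [hc]; rfl
  have hd : finrank F (Fin n → F) = finrank F ((Fin n → F) →ₗ[F] F) := (Subspace.dual_finrank_eq).symm
  obtain ⟨p, hp⟩ := (LinearMap.injective_iff_surjective_of_finrank_eq_finrank hd).1 hinj f
  exact ⟨p, fun d => by rw [hp]⟩

theorem IsAlt.perp_mem (h : IsAlt B) {z p : Fin n → F} (hp : ∀ x, B z x = 0 → B p x = 0) :
    ∃ s : F, p = s • z := by
  by_cases hz : z = 0
  · refine ⟨0, ?_⟩
    rw [zero_smul]
    exact h.nd p fun d => hp d (by rw [hz]; simp)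
  obtain ⟨x₀, hx₀⟩ : ∃ x, B z x ≠ 0 := by
    by_contra hall
    push Not at hall
    exact hz (h.nd z hall)
  refine ⟨B p x₀ / B z x₀, sub_eq_zero.1 (h.nd _ fun x => ?_)⟩
  have := hp (x - (B z x / B z x₀) • x₀) (by simp [div_mul_cancel₀ _ hx₀])
  rw [map_sub, map_smul, smul_eq_mul, sub_eq_zero] at this
  simp only [map_sub, map_smul, LinearMap.sub_apply, LinearMap.smul_apply, smul_eq_mul]
  rw [this]; field_simp; ring

theorem IsAlt.exists_pair_one (h : IsAlt B) {u : Fin n → F} (hu : u ≠ 0) : ∃ v, B u v = 1 := by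
  obtain ⟨x, hx⟩ : ∃ x, B u x ≠ 0 := by
    by_contra hall
    push Not at hall
    exact hu (h.nd u hall)
  exact ⟨(B u x)⁻¹ • x, by rw [map_smul, smul_eq_mul, inv_mul_cancel₀ hx]⟩

/-- A vector perpendicular to `z` avoiding two conditions. -/
theorem IsAlt.exists_two (h : IsAlt B) {z p q : Fin n → F} (hp : ∀ s : F, p ≠ s • z) (hq : ∀ s : F, q ≠ s • z) :
    ∃ m, B z m = 0 ∧ B p m ≠ 0 ∧ B q m ≠ 0 := by
  have ex : ∀ p : Fin n → F, (∀ s : F, p ≠ s • z) → ∃ m, B z m = 0 ∧ B p m ≠ 0 := fun p hp => by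
    by_contra hall
    push Not at hall
    obtain ⟨s, hs⟩ := h.perp_mem hall
    exact hp s hs
  obtain ⟨m₁, h1, h1'⟩ := ex p hp
  obtain ⟨m₂, h2, h2'⟩ := ex q hq
  by_cases a : B q m₁ = 0
  · by_cases b : B p m₂ = 0
    · exact ⟨m₁ + m₂, by simp [h1, h2], by simp [b, h1'], by simp [a, h2']⟩
    · exact ⟨m₂, h2, b, h2'⟩
  · exact ⟨m₁, h1, h1', a⟩

/-- A vector with prescribed products with `k < n` others exists non-trivially. -/
theorem exists_ker_ne {W : Type*} [AddCommGroup W] [Module F W] [FiniteDimensional F W]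
    (L : (Fin n → F) →ₗ[F] W) (hlt : finrank F W < n) : ∃ y, y ≠ 0 ∧ L y = 0 := by
  obtain ⟨y, hy, hy0⟩ := Submodule.exists_mem_ne_zero_of_ne_bot (show LinearMap.ker L ≠ ⊥ from fun e => by
    have h1 := L.finrank_range_add_finrank_ker
    have h2 := Submodule.finrank_le (LinearMap.range L)
    rw [e, finrank_bot, Module.finrank_fin_fun] at h1
    omega)
  exact ⟨y, hy0, hy⟩

/-- A vector perpendicular to two given ones and outside their span. -/
theorem IsAlt.exists_perp_two (_h : IsAlt B) (hn : 5 ≤ n) (y r : Fin n → F) :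
    ∃ w, B w y = 0 ∧ B w r = 0 ∧ w ∉ span F ({y, r} : Set (Fin n → F)) := by
  by_contra hall
  push Not at hall
  let L : (Fin n → F) →ₗ[F] F × F := LinearMap.prod (B.flip y) (B.flip r)
  have hle : LinearMap.ker L ≤ span F ({y, r} : Set (Fin n → F)) := fun w hw => by
    have : (B w y, B w r) = ((0 : F), (0 : F)) := hw
    exact hall w (congrArg Prod.fst this) (congrArg Prod.snd this)
  classical
  have h1 := Submodule.finrank_mono hle
  have h2 : finrank F (span F ({y, r} : Set (Fin n → F))) ≤ 2 := by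
    have := finrank_span_finset_le_card (R := F) ({y, r} : Finset (Fin n → F))
    rw [Finset.coe_pair] at this
    exact this.trans Finset.card_le_two
  have h3 := L.finrank_range_add_finrank_ker
  have h4 := Submodule.finrank_le (LinearMap.range L)
  rw [Module.finrank_prod, Module.finrank_self] at h4
  rw [Module.finrank_fin_fun] at h3
  omega

/-- The symplectic transvection. -/
def tv (B : LinearMap.BilinForm F (Fin n → F)) (v : Fin n → F) (t : F) (x : Fin n → F) : Fin n → F :=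
  x + (t * B x v) • v

theorem tv_to (h : IsAlt B) {p m : Fin n → F} (hpm : B p m ≠ 0) : tv B (m - p) (B p m)⁻¹ p = m := by
  rw [tv, map_sub, h.self, sub_zero, inv_mul_cancel₀ hpm, one_smul, add_sub_cancel]

theorem tv_fix {z v : Fin n → F} (hz : B z v = 0) (t : F) : tv B v t z = z := by
  rw [tv, hz, mul_zero, zero_smul, add_zero]

/-- Relations invariant under transvections hold for all non-zero vectors. -/
theorem vec_all (h : IsAlt B) (P : (Fin n → F) → Prop) (hP : ∀ v t x, P x → P (tv B v t x))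
    {p q : Fin n → F} (hp : p ≠ 0) (hq : q ≠ 0) (hPp : P p) : P q := by
  obtain ⟨m, -, h1, h2⟩ := h.exists_two (z := 0) (p := p) (q := q) (by simpa using hp) (by simpa using hq)
  have := hP (q - m) (B m q)⁻¹ _ (hP (m - p) (B p m)⁻¹ _ hPp)
  rwa [tv_to h h1, tv_to h (by rw [h.swap]; exact neg_ne_zero.2 h2)] at this

/-- Relations invariant under transvections hold for all independent perpendicular pairs. -/
theorem perp_pairs_all (h : IsAlt B) (P : (Fin n → F) → (Fin n → F) → Prop)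
    (hP : ∀ v t x y, P x y → P (tv B v t x) (tv B v t y))
    {z p : Fin n → F} (hz : z ≠ 0) (hzp : B z p = 0) (hp : ∀ s : F, p ≠ s • z) (hPp : P z p)
    {z' q : Fin n → F} (hz' : z' ≠ 0) (hzq : B z' q = 0) (hq : ∀ s : F, q ≠ s • z') : P z' q := by
  obtain ⟨p', hp'0, hp'1, hP'⟩ : ∃ p', B z' p' = 0 ∧ (∀ s : F, p' ≠ s • z') ∧ P z' p' := by
    refine vec_all h (fun x => ∃ p', B x p' = 0 ∧ (∀ s : F, p' ≠ s • x) ∧ P x p')
      (fun v t x hx => ?_) hz hz' ⟨p, hzp, hp, hPp⟩
    obtain ⟨p', h0, h1, h2⟩ := hx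
    refine ⟨tv B v t p', ?_, fun s hs => h1 s (sub_eq_zero.1 ?_), hP v t _ _ h2⟩
    · simp only [tv, map_add, map_smul, LinearMap.add_apply, LinearMap.smul_apply, smul_eq_mul, h0, h.self,
        h.swap v p']
      ring
    · have hinj : ∀ d, tv B v t d = 0 → d = 0 := fun d hd => by
        have hv : B d v = 0 := by
          have := congrArg (fun e => B e v) hd
          simpa [tv, h.self] using this
        rwa [tv, hv, mul_zero, zero_smul, add_zero] at hd
      refine hinj _ ?_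
      have hlin : tv B v t (p' - s • x) = tv B v t p' - s • tv B v t x := by
        simp only [tv, map_sub, map_smul, LinearMap.sub_apply, LinearMap.smul_apply, smul_eq_mul]
        module
      rw [hlin, hs, sub_self]
  obtain ⟨m, hm, h1, h2⟩ := h.exists_two hp'1 hq
  have hv1 : B z' (m - p') = 0 := by rw [map_sub, hm, hp'0, sub_self]
  have hv2 : B z' (q - m) = 0 := by rw [map_sub, hzq, hm, sub_self]
  have := hP (q - m) (B m q)⁻¹ _ _ (hP (m - p') (B p' m)⁻¹ _ _ hP')
  rwa [tv_fix hv1, tv_fix hv2, tv_to h h1, tv_to h (by rw [h.swap]; exact neg_ne_zero.2 h2)] at this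

end Alt

variable {ι : Type} [Fintype ι] [DecidableEq ι] {a b : ℕ}

/-- A tensor decomposition of a quadratic space into alternating spaces. -/
structure TS (Q : QuadraticForm F (ι → F)) (a b : ℕ) where
  T : (Fin a → F) →ₗ[F] (Fin b → F) →ₗ[F] (ι → F)
  L : TensorMax.Tn F a b ≃ₗ[F] (ι → F)
  hL : ∀ c y, L (Matrix.vecMulVec c y) = T c y
  B₁ : LinearMap.BilinForm F (Fin a → F)
  B₂ : LinearMap.BilinForm F (Fin b → F)
  h₁ : IsAlt B₁
  h₂ : IsAlt B₂
  polar : ∀ c y d z, pB Q (T c y) (T d z) = B₁ c d * B₂ y z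
  pure : ∀ c y, Q (T c y) = 0
  ctr : (Fin b → F) →ₗ[F] (ι → F) →ₗ[F] (Fin a → F)
  ctr_T : ∀ w c y, ctr w (T c y) = B₂ y w • c
  nd : ∀ X, (∀ Y, pB Q X Y = 0) → X = 0

variable {Q : QuadraticForm F (ι → F)} (S : TS Q a b)

namespace TS

theorem ext_T {W : Type*} [AddCommGroup W] [Module F W] {f g : (ι → F) →ₗ[F] W}
    (h : ∀ c y, f (S.T c y) = g (S.T c y)) : f = g := by
  refine LinearMap.ext fun X => ?_
  obtain ⟨M, rfl⟩ := S.L.surjective X
  rw [TensorMax.rows_sum M, map_sum, map_sum, map_sum]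
  exact Finset.sum_congr rfl fun i _ => by rw [S.hL, h]

theorem pB_T (X : ι → F) (d : Fin a → F) (w : Fin b → F) : pB Q X (S.T d w) = S.B₁ (S.ctr w X) d := by
  have := S.ext_T (f := (pB Q).flip (S.T d w)) (g := S.B₁.flip d ∘ₗ S.ctr w) fun c y => by
    show pB Q (S.T c y) (S.T d w) = S.B₁ (S.ctr w (S.T c y)) d
    rw [S.ctr_T, S.polar, map_smul, LinearMap.smul_apply, smul_eq_mul, mul_comm]
  exact LinearMap.congr_fun this X

theorem T_eq_zero {c : Fin a → F} {y : Fin b → F} (hy : y ≠ 0) (h : S.T c y = 0) : c = 0 := by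
  obtain ⟨v, hv⟩ := S.h₂.exists_pair_one hy
  have := congrArg (S.ctr v) h
  rwa [S.ctr_T, hv, one_smul, map_zero] at this

theorem eq_zero_of_ctr {X : ι → F} (h : ∀ x, S.ctr x X = 0) : X = 0 := by
  refine S.nd X fun Y => ?_
  have := S.ext_T (f := pB Q X) (g := 0) fun d x => by
    rw [S.pB_T, h, map_zero, LinearMap.zero_apply, LinearMap.zero_apply]
  exact LinearMap.congr_fun this Y

theorem mem_line {X : ι → F} {w z : Fin b → F} (hz : S.B₂ w z = 1) (h : ∀ x, S.B₂ w x = 0 → S.ctr x X = 0) :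
    X = S.T (S.ctr z X) w := by
  refine sub_eq_zero.1 (S.eq_zero_of_ctr fun x => ?_)
  have h1 := h (x - S.B₂ w x • z) (by rw [map_sub, map_smul, hz, smul_eq_mul, mul_one, sub_self])
  rw [map_sub, map_smul, LinearMap.sub_apply, LinearMap.smul_apply, sub_eq_zero] at h1
  rw [map_sub, S.ctr_T, h1, sub_self]

/-- `X ↦ N (ctr q X) ⊗ p` -/
def el (p q : Fin b → F) (N : Module.End F (Fin a → F)) : Module.End F (ι → F) :=
  S.T.flip p ∘ₗ N ∘ₗ S.ctr q

theorem el_apply (p q : Fin b → F) (N : Module.End F (Fin a → F)) (X : ι → F) :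
    S.el p q N X = S.T (N (S.ctr q X)) p := rfl

theorem el_el (p q r s : Fin b → F) (N N' : Module.End F (Fin a → F)) (X : ι → F) :
    S.el p q N (S.el r s N' X) = S.B₂ r q • S.el p s (N * N') X := by
  simp [el_apply, S.ctr_T]

/-- `c ↦ B(c, q) p` -/
def r1 (p q : Fin a → F) : Module.End F (Fin a → F) := (S.B₁.flip q).smulRight p

@[simp]
theorem r1_apply (p q c : Fin a → F) : S.r1 p q c = S.B₁ c q • p := rfl

/-- `c ↦ B(c, q) p - B(c, p) q` -/
def biv (p q : Fin a → F) : Module.End F (Fin a → F) := S.r1 p q - S.r1 q p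

/-- The adjoint relation. -/
def Adj (N N' : Module.End F (Fin a → F)) : Prop := ∀ x d, S.B₁ x (N d) = S.B₁ (N' x) d

theorem Adj.symm {N N' : Module.End F (Fin a → F)} (h : S.Adj N N') : S.Adj N' N := fun x d => by
  rw [S.h₁.swap, ← h, S.h₁.swap d, neg_neg]

theorem exists_adj (N : Module.End F (Fin a → F)) : ∃ N', S.Adj N N' := by
  have h : ∀ x, ∃ p, ∀ d, S.B₁ p d = S.B₁ x (N d) := fun x => S.h₁.exists_rep (S.B₁ x ∘ₗ N)
  choose p hp using h
  have huniq : ∀ p q, (∀ d, S.B₁ p d = S.B₁ q d) → p = q := fun p q h =>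
    sub_eq_zero.1 (S.h₁.nd _ fun d => by rw [map_sub, LinearMap.sub_apply, h, sub_self])
  exact ⟨{ toFun := p
           map_add' := fun x y => huniq _ _ fun d => by simp [hp]
           map_smul' := fun t x => huniq _ _ fun d => by simp [hp] }, fun x d => (hp x d).symm⟩

/-- The infinitesimal Siegel map. -/
noncomputable def sg (x y : ι → F) : Module.End F (ι → F) :=
  ((pB Q).flip y).smulRight x - ((pB Q).flip x).smulRight y

theorem sg_T (p q : Fin a → F) (w y : Fin b → F) (X : ι → F) :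
    sg (Q := Q) (S.T p w) (S.T q y) X = S.el w y (S.r1 p q) X - S.el y w (S.r1 q p) X := by
  simp [sg, el_apply, S.pB_T]

/-- The product maps. -/
def IsT (g : (ι → F) ≃ₗ[F] (ι → F)) : Prop :=
  ∃ (g₁ : (Fin a → F) →ₗ[F] (Fin a → F)) (g₂ : (Fin b → F) →ₗ[F] (Fin b → F)),
    ∀ c y, g (S.T c y) = S.T (g₁ c) (g₂ y)

/-- Lines go to lines. -/
def Line (g : (ι → F) ≃ₗ[F] (ι → F)) (w : Fin b → F) : Prop := ∃ w', ∀ c, ∃ d, g (S.T c w) = S.T d w'

/-- The isometry groups containing the transvections of both factors. -/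
structure Over (H : Subgroup ((ι → F) ≃ₗ[F] (ι → F))) : Prop where
  iso : ∀ g ∈ H, ∀ x, Q (g x) = Q x
  left : ∀ u t, ∃ g ∈ H, ∀ c y, g (S.T c y) = S.T (tv S.B₁ u t c) y
  right : ∀ v t, ∃ g ∈ H, ∀ c y, g (S.T c y) = S.T c (tv S.B₂ v t y)

variable {S}
variable {H : Subgroup ((ι → F) ≃ₗ[F] (ι → F))}

theorem Over.pB_eq (O : S.Over H) {g : (ι → F) ≃ₗ[F] (ι → F)} (hg : g ∈ H) (x y : ι → F) :
    pB Q (g x) (g y) = pB Q x y := by
  simp only [QuadraticMap.polarBilin_apply_apply, QuadraticMap.polar, ← map_add, O.iso g hg]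

theorem Over.pB_symm_eq (O : S.Over H) {g : (ι → F) ≃ₗ[F] (ι → F)} (hg : g ∈ H) (x y : ι → F) :
    pB Q (g.symm x) y = pB Q x (g y) := by
  rw [← O.pB_eq hg (g.symm x) y, g.apply_symm_apply]

theorem Over.root (O : S.Over H) (w : Fin b → F) (t : F) : InH H (S.el w w (t • 1)) := by
  obtain ⟨g, hg, hgx⟩ := O.right w t
  refine ⟨g, hg, fun X => ?_⟩
  have := S.ext_T (f := g.toLinearMap) (g := LinearMap.id + S.el w w (t • 1)) fun c y => by
    simp [el_apply, S.ctr_T, hgx, tv, smul_smul, mul_comm]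
  exact LinearMap.congr_fun this X

theorem conj_el {g : (ι → F) ≃ₗ[F] (ι → F)} {A : (Fin a → F) →ₗ[F] (Fin a → F)}
    {τ : (Fin b → F) →ₗ[F] (Fin b → F)} (hgx : ∀ c y, g (S.T c y) = S.T (A c) (τ y))
    (hτ : ∀ x y, S.B₂ (τ x) (τ y) = S.B₂ x y) (p q : Fin b → F) {N N' : Module.End F (Fin a → F)}
    (hN : ∀ c, N' (A c) = A (N c)) (X : ι → F) :
    g (S.el p q N (g.symm X)) = S.el (τ p) (τ q) N' X := by
  obtain ⟨Y, rfl⟩ := g.surjective X
  have := S.ext_T (f := g.toLinearMap ∘ₗ S.el p q N) (g := S.el (τ p) (τ q) N' ∘ₗ g.toLinearMap) fun c y => by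
    simp [el_apply, S.ctr_T, hgx, hτ, hN]
  rw [g.symm_apply_apply]
  exact LinearMap.congr_fun this Y

/-- Transporting a member by a transvection of the first factor. -/
theorem Over.exists_left (O : S.Over H) (u : Fin a → F) (t : F) :
    ∃ g ∈ H, ∀ c y, g (S.T c y) = S.T ((LinearMap.id + t • S.r1 u u : Module.End F (Fin a → F)) c)
      ((LinearMap.id : (Fin b → F) →ₗ[F] (Fin b → F)) y) := by
  obtain ⟨g, hg, hgx⟩ := O.left u t
  exact ⟨g, hg, fun c y => by simp [hgx, tv, smul_smul]⟩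

theorem Over.exists_right (O : S.Over H) (v : Fin b → F) (t : F) :
    ∃ g ∈ H, ∃ τ : (Fin b → F) →ₗ[F] (Fin b → F), (∀ y, τ y = tv S.B₂ v t y) ∧
      (∀ x y, S.B₂ (τ x) (τ y) = S.B₂ x y) ∧
      ∀ c y, g (S.T c y) = S.T ((LinearMap.id : (Fin a → F) →ₗ[F] (Fin a → F)) c) (τ y) := by
  obtain ⟨g, hg, hgx⟩ := O.right v t
  refine ⟨g, hg, LinearMap.id + t • (S.B₂.flip v).smulRight v, fun y => by simp [tv, smul_smul],
    fun x y => ?_, fun c y => by simp [hgx, tv, smul_smul]⟩
  simp [S.h₂.self, S.h₂.swap v y]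
  ring

end TS

end Cfsg.Agent.SympTensor
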