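import Cfsg.Agent.Lib.SympTensor.Line

/-!
An element fixing a line of tensors gives a non-scalar map between two lines.
-/

set_option autoImplicit false

namespace Cfsg.Agent.SympTensor

open Module Submodule
open Cfsg.Agent Cfsg.Agent.TransvMax Cfsg.Agent.ExtFieldMax

variable {F : Type*} [Field F] {ι : Type} [Fintype ι] [DecidableEq ι] {a b : ℕ}
  {Q : QuadraticForm F (ι → F)}

namespace TS

variable (S : TS Q a b) (H : Subgroup ((ι → F) ≃ₗ[F] (ι → F)))

/-- A bivector element on one line. -/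
def HasBiv : Prop :=
  3 ≤ a ∧ ∃ (w : Fin b → F) (u v : Fin a → F), w ≠ 0 ∧ v ≠ 0 ∧ (∀ s : F, u ≠ s • v) ∧
    ∀ t : F, InH H (S.el w w (t • S.biv u v))

/-- A non-scalar map between two lines. -/
def HasCross : Prop :=
  ∃ (y w : Fin b → F) (N N' : Module.End F (Fin a → F)), w ≠ 0 ∧ S.B₂ w y = 0 ∧ (∀ s : F, y ≠ s • w) ∧
    S.Adj N N' ∧ (∀ s : F, N ≠ s • 1) ∧
    ∀ t : F, ∃ M, InH H (S.el y w (t • N') + S.el w y (t • N) + S.el w w M)

variable {S H}

theorem finrank_ker_form {n : ℕ} {B : LinearMap.BilinForm F (Fin n → F)} (h : IsAlt B) {v : Fin n → F}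
    (hv : v ≠ 0) : finrank F (LinearMap.ker (B v)) + 1 = n := by
  obtain ⟨x, hx⟩ := h.exists_pair_one hv
  have hne : B v ≠ 0 := fun e => by rw [e] at hx; exact zero_ne_one hx
  have h1 := (B v).finrank_range_add_finrank_ker
  have h2 : LinearMap.range (B v) = ⊤ := LinearMap.range_eq_top.2 (LinearMap.surjective hne)
  rw [h2, finrank_top, Module.finrank_self, Module.finrank_fin_fun] at h1
  omega

/-- An element with all lines of a hyperplane going to lines. -/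
theorem hasBiv_of_lines (ha : 0 < a) (hb : 5 ≤ b) (O : S.Over H) {e : (ι → F) ≃ₗ[F] (ι → F)} (he : e ∈ H)
    (heT : ¬ S.IsT e) {w : Fin b → F} (hw : w ≠ 0) (hl : ∀ y, S.B₂ w y = 0 → S.Line e y) : S.HasBiv H := by
  classical
  set W := LinearMap.ker (S.B₂ w) with hWdef
  have hwW : w ∈ W := S.h₂.self w
  obtain ⟨g₁, g₂, hg₁, hg₂, hg⟩ := TensorMax.lines_tensor (by omega) (S.L.trans (e.trans S.L.symm)) W
    (fun h => hw (by rw [h, Submodule.mem_bot] at hwW; exact hwW)) (fun y hy => by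
      obtain ⟨w', hw'⟩ := hl y hy
      refine ⟨w', fun c => ?_⟩
      obtain ⟨d, hd⟩ := hw' c
      refine ⟨d, S.L.injective ?_⟩
      simp [S.hL, hd])
  have he' : ∀ c, ∀ y ∈ W, e (S.T c y) = S.T (g₁ c) (g₂ y) := fun c y hy => by
    have h := congrArg S.L (hg c y hy)
    simpa [S.hL] using h
  let G := LinearEquiv.ofInjectiveEndo g₁ hg₁
  have hG : ∀ c, G c = g₁ c := fun c => rfl
  -- the multiplier
  obtain ⟨c₁, hc₁⟩ : ∃ c : Fin a → F, c ≠ 0 := ⟨Pi.single ⟨0, ha⟩ 1, by simp⟩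
  obtain ⟨d₁, hd₁⟩ := S.h₁.exists_pair_one hc₁
  obtain ⟨p, hp1, -, hp⟩ := S.h₂.exists_perp_two hb w w
  obtain ⟨m, hm, hpm, -⟩ := S.h₂.exists_two (z := w) (p := p) (q := p)
    (fun s hs => hp (by rw [hs]; exact smul_mem _ _ (subset_span (by simp))))
    (fun s hs => hp (by rw [hs]; exact smul_mem _ _ (subset_span (by simp))))
  have hpW : p ∈ W := by rw [hWdef, LinearMap.mem_ker, S.h₂.swap, hp1, neg_zero]
  have hmW : m ∈ W := hm
  have hiso : ∀ c d, ∀ y ∈ W, ∀ z ∈ W,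
      S.B₁ (g₁ c) (g₁ d) * S.B₂ (g₂ y) (g₂ z) = S.B₁ c d * S.B₂ y z := fun c d y hy z hz => by
    have h := O.pB_eq he (S.T c y) (S.T d z)
    rwa [he' c y hy, he' d z hz, S.polar, S.polar] at h
  have hβ : S.B₂ (g₂ p) (g₂ m) ≠ 0 := fun h => by
    have := hiso c₁ d₁ p hpW m hmW
    rw [h, mul_zero, hd₁, one_mul] at this
    exact hpm this.symm
  obtain ⟨μ, hμdef⟩ : ∃ μ, μ = S.B₂ p m / S.B₂ (g₂ p) (g₂ m) := ⟨_, rfl⟩
  have hμ0 : μ ≠ 0 := by rw [hμdef]; exact div_ne_zero hpm hβ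
  have hsim : ∀ c d, S.B₁ (g₁ c) (g₁ d) = μ * S.B₁ c d := fun c d => by
    rw [hμdef, div_mul_eq_mul_div, eq_div_iff hβ, hiso c d p hpW m hmW, mul_comm]
  have hsim₂ : ∀ y ∈ W, ∀ z ∈ W, μ * S.B₂ (g₂ y) (g₂ z) = S.B₂ y z := fun y hy z hz => by
    have := hiso c₁ d₁ y hy z hz
    rwa [hsim, hd₁, mul_one, one_mul] at this
  set w' := g₂ w with hw'def
  have hw' : w' ≠ 0 := fun h => hw (hg₂ w hwW h)
  have hperp : ∀ y ∈ W, S.B₂ w' (g₂ y) = 0 := fun y hy => by
    have := hsim₂ w hwW y hy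
    rw [show S.B₂ w y = 0 from hy, mul_eq_zero] at this
    exact this.resolve_left hμ0
  have honto : ∀ x, S.B₂ w' x = 0 → ∃ y ∈ W, g₂ y = x := by
    intro x hx
    have hle : W.map g₂ ≤ LinearMap.ker (S.B₂ w') := by
      rintro _ ⟨y, hy, rfl⟩; exact hperp y hy
    have hinj : Function.Injective (g₂.domRestrict W) := (injective_iff_map_eq_zero _).2 fun y hy =>
      Subtype.ext (hg₂ y y.2 hy)
    have hdim : finrank F (W.map g₂) = finrank F W := by
      rw [← LinearMap.range_domRestrict, LinearMap.finrank_range_of_inj hinj]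
    have h1 := finrank_ker_form S.h₂ hw
    have h2 := finrank_ker_form S.h₂ hw'
    rw [← hWdef] at h1
    have heq := Submodule.eq_of_le_of_finrank_le hle (by omega)
    have : x ∈ LinearMap.ker (S.B₂ w') := hx
    rw [← heq] at this
    exact this
  -- a partner
  obtain ⟨z₀, hz₀⟩ := S.h₂.exists_pair_one hw
  obtain ⟨z', hz'⟩ : ∃ z', ∀ y ∈ W, μ * S.B₂ (g₂ y) z' = S.B₂ y z₀ := by
    have hinj : LinearMap.ker (g₂.domRestrict W) = ⊥ := LinearMap.ker_eq_bot'.2 fun y hy =>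
      Subtype.ext (hg₂ y y.2 hy)
    obtain ⟨i₂, hi⟩ := (g₂.domRestrict W).exists_leftInverse_of_injective hinj
    obtain ⟨r, hr⟩ := S.h₂.exists_rep (μ⁻¹ • (S.B₂.flip z₀ ∘ₗ W.subtype ∘ₗ i₂))
    refine ⟨-r, fun y hy => ?_⟩
    have h1 : i₂ (g₂ y) = ⟨y, hy⟩ := LinearMap.congr_fun hi ⟨y, hy⟩
    rw [map_neg, S.h₂.swap, neg_neg, hr]
    simp [h1, mul_inv_cancel_left₀ hμ0]
  have hz'w : μ * S.B₂ w' z' = 1 := by rw [hw'def, hz' w hwW, hz₀]
  obtain ⟨M, hMdef⟩ : ∃ M : Module.End F (Fin a → F),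
      M = μ • (G.symm.toLinearMap ∘ₗ S.ctr z' ∘ₗ e.toLinearMap ∘ₗ S.T.flip z₀) := ⟨_, rfl⟩
  have hez : ∀ c, e (S.T c z₀) = S.T (g₁ c) z' + S.T (g₁ (M c)) w' := by
    intro c
    obtain ⟨X, hX⟩ : ∃ X, X = e (S.T c z₀) - S.T (g₁ c) z' := ⟨_, rfl⟩
    have hline : ∀ x, S.B₂ w' x = 0 → S.ctr x X = 0 := by
      intro x hx
      obtain ⟨y, hy, rfl⟩ := honto x hx
      refine S.h₁.nd _ fun d => ?_
      obtain ⟨d₀, rfl⟩ : ∃ d₀, g₁ d₀ = d := ⟨G.symm d, G.apply_symm_apply d⟩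
      rw [← S.pB_T, hX, map_sub, LinearMap.sub_apply, ← he' d₀ y hy, O.pB_eq he, S.polar, he' d₀ y hy, S.polar,
        hsim, S.h₂.swap z', S.h₂.swap z₀, ← hz' y hy]
      ring
    have h1 := S.mem_line (z := μ • z') (by rw [map_smul, smul_eq_mul, hz'w]) hline
    have h2 : S.ctr (μ • z') X = g₁ (M c) := by
      rw [hX, map_smul, LinearMap.smul_apply, map_sub, S.ctr_T, S.h₂.self, zero_smul, sub_zero, ← hG, hMdef]
      simp
    rw [← h2, ← h1, hX, add_sub_cancel]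
  have halt : ∀ c, S.B₁ c (M c) = 0 := by
    intro c
    have h := O.iso e he (S.T c z₀)
    rw [hez, QuadraticMap.map_add Q, S.pure, S.pure, S.pure, zero_add, zero_add,
      ← QuadraticMap.polarBilin_apply_apply, S.polar, hsim, S.h₂.swap z', mul_neg, neg_eq_zero,
      mul_comm μ, mul_assoc, hz'w, mul_one] at h
    exact h
  have hdec : ∀ c y, S.T c y = S.T c (y - S.B₂ w y • z₀) + S.B₂ w y • S.T c z₀ := fun c y => by
    rw [map_sub, map_smul, sub_add_cancel]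
  have hyW : ∀ y, y - S.B₂ w y • z₀ ∈ W := fun y => by
    rw [hWdef, LinearMap.mem_ker, map_sub, map_smul, hz₀, smul_eq_mul, mul_one, sub_self]
  obtain ⟨u, hu, hMu⟩ : ∃ u, u ≠ 0 ∧ ∀ s : F, M u ≠ s • u := by
    by_contra hall
    push Not at hall
    obtain ⟨α, hα⟩ := LinearMap.exists_eq_smul_id_of_forall_notLinearIndependent (f := M) fun x hli => by
      have hx : x ≠ 0 := hli.ne_zero 0
      obtain ⟨s, hs⟩ := hall x hx
      exact (LinearIndependent.pair_iff' hx).1 hli s hs.symm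
    refine heT ⟨g₁, g₂ ∘ₗ (LinearMap.id - (S.B₂ w).smulRight z₀) + (S.B₂ w).smulRight (z' + α • w'),
      fun c y => ?_⟩
    rw [hdec c y, map_add, map_smul, he' c _ (hyW y), hez, hα]
    simp
  have hsa : ∀ c, S.B₁ (M c) u = S.B₁ c (M u) := fun c => by
    have h := halt (c + u)
    simp only [map_add, LinearMap.add_apply, halt, zero_add, add_zero] at h
    rw [S.h₁.swap (M c)]
    linear_combination -h
  have hu0 : S.B₁ (M u) u = 0 := by rw [hsa, halt]
  have ha3 : 3 ≤ a := by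
    have hli : LinearIndependent F ![u, M u] := (LinearIndependent.pair_iff' hu).2 fun s hs => hMu s hs.symm
    have hle : span F (Set.range ![u, M u]) ≤ LinearMap.ker (S.B₁ u) := by
      rw [span_le]
      rintro _ ⟨i, rfl⟩
      fin_cases i
      · exact S.h₁.self u
      · exact (S.h₁.swap u (M u)).trans (by rw [hu0, neg_zero])
    have h1 := Submodule.finrank_mono hle
    rw [finrank_span_eq_card hli, Fintype.card_fin] at h1
    have h2 := finrank_ker_form S.h₁ hu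
    omega
  refine ⟨ha3, w', g₁ (M u), g₁ u, hw', fun h => hu (hg₁ (h.trans g₁.map_zero.symm)), fun s hs => hMu s (hg₁ (by
    rw [hs, map_smul])), fun t => ?_⟩
  obtain ⟨σ₀, hσ₀, hσ₀x⟩ := O.left u (-t)
  obtain ⟨σ, hσ, hσx⟩ := O.left (g₁ u) (-t / μ)
  refine ⟨σ⁻¹ * (e * σ₀ * e⁻¹), H.mul_mem (H.inv_mem hσ) (H.mul_mem (H.mul_mem he hσ₀) (H.inv_mem he)),
    fun X => ?_⟩
  obtain ⟨Y, rfl⟩ := e.surjective X
  refine σ.injective ?_
  show σ (σ.symm (e (σ₀ (e.symm (e Y))))) = _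
  rw [σ.apply_symm_apply, e.symm_apply_apply]
  have hs : ∀ c, g₁ (tv S.B₁ u (-t) c) = tv S.B₁ (g₁ u) (-t / μ) (g₁ c) := fun c => by
    rw [tv, tv, hsim, map_add, map_smul]
    congr 2
    field_simp
  have := S.ext_T (f := e.toLinearMap ∘ₗ σ₀.toLinearMap)
    (g := σ.toLinearMap ∘ₗ (LinearMap.id + S.el w' w' (t • S.biv (g₁ (M u)) (g₁ u))) ∘ₗ e.toLinearMap)
    fun c y => by
    have hA : ∀ c, ∀ z ∈ W, e (σ₀ (S.T c z)) = σ (e (S.T c z) +
        S.el w' w' (t • S.biv (g₁ (M u)) (g₁ u)) (e (S.T c z))) := fun c z hz => by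
      rw [hσ₀x, he' _ z hz, he' c z hz, el_apply, S.ctr_T, S.h₂.swap, hperp z hz, neg_zero, zero_smul, map_zero,
        map_zero, LinearMap.zero_apply, add_zero, hσx, hs]
    have hB : e (σ₀ (S.T c z₀)) = σ (e (S.T c z₀) +
        S.el w' w' (t • S.biv (g₁ (M u)) (g₁ u)) (e (S.T c z₀))) := by
      have hzw : S.B₂ z' w' = -μ⁻¹ := by
        rw [S.h₂.swap]; congr 1; exact eq_inv_of_mul_eq_one_right hz'w
      rw [hσ₀x, hez, hez, el_apply, map_add (S.ctr w'), S.ctr_T, S.ctr_T, S.h₂.self, zero_smul, add_zero, hzw,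
        map_add, map_add, hσx, hσx, hσx]
      simp only [tv, biv, map_smul, LinearMap.smul_apply, LinearMap.sub_apply, r1_apply, map_add, map_sub, hsim,
        LinearMap.add_apply, smul_eq_mul, hu0, hsa, S.h₁.self, mul_zero, zero_mul, zero_smul, sub_zero, add_zero,
        neg_smul, map_neg, LinearMap.neg_apply]
      match_scalars <;> field_simp <;> ring
    show e (σ₀ (S.T c y)) = σ (e (S.T c y) + S.el w' w' (t • S.biv (g₁ (M u)) (g₁ u)) (e (S.T c y)))
    rw [hdec c y]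
    simp only [map_add, map_smul] at hA hB ⊢
    rw [hA c _ (hyW y), hB]
    module
  exact LinearMap.congr_fun this Y

/-- The cross element of an element fixing a line pointwise. -/
theorem hasCross_of_map (O : S.Over H) {g : (ι → F) ≃ₗ[F] (ι → F)} (hg : g ∈ H) {w y y' : Fin b → F}
    (hw : w ≠ 0) (hy' : S.B₂ w y' = 0) (hind : ∀ s : F, y' ≠ s • w) {N : Module.End F (Fin a → F)}
    (hN : ∀ s : F, N ≠ s • 1) (hgy : ∀ c, g (S.T c y) = S.T c y' + S.T (N c) w) : S.HasCross H := by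
  obtain ⟨N', hN'⟩ := S.exists_adj N
  have hctr : ∀ X, S.ctr y (g.symm X) = S.ctr y' X + N' (S.ctr w X) := fun X =>
    sub_eq_zero.1 (S.h₁.nd _ fun d => by
      rw [map_sub, LinearMap.sub_apply, map_add, LinearMap.add_apply, ← hN', ← S.pB_T, ← S.pB_T, ← S.pB_T,
        O.pB_symm_eq hg, hgy, map_add, sub_self])
  have hy'w : S.B₂ y' w = 0 := by rw [S.h₂.swap, hy', neg_zero]
  refine ⟨y', w, N, N', hw, hy', hind, hN', hN, fun t => ⟨t • (N * N'), ?_⟩⟩
  refine (((O.root y t).conj hg).sub (O.root y' t) (fun X => ?_) fun X => ?_).congr fun X => ?_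
  · simp [el_apply, S.ctr_T, S.h₂.self]
  · simp [el_apply, hctr, S.ctr_T, S.h₂.self, hy'w]
  · simp only [LinearMap.sub_apply, LinearMap.comp_apply, LinearEquiv.coe_coe, LinearMap.add_apply, el_apply, hctr,
      LinearMap.smul_apply, Module.End.one_apply, map_smul, map_add, hgy, Module.End.mul_apply]
    module

/-- An element fixing a line pointwise. -/
theorem cases_of_fix (ha : 0 < a) (hb : 5 ≤ b) (O : S.Over H) {h : (ι → F) ≃ₗ[F] (ι → F)} (hh : h ∈ H)
    (hhT : ¬ S.IsT h) {w : Fin b → F} (hw : w ≠ 0) (hfix : ∀ c, h (S.T c w) = S.T c w) :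
    S.HasBiv H ∨ S.HasCross H := by
  classical
  have hctrw : ∀ g ∈ H, (∀ c, g (S.T c w) = S.T c w) → ∀ X, S.ctr w (g X) = S.ctr w X := fun g hg hf X =>
    sub_eq_zero.1 (S.h₁.nd _ fun d => by
      rw [map_sub, LinearMap.sub_apply, ← S.pB_T, ← S.pB_T, ← hf d, O.pB_eq hg, hf, sub_self])
  by_cases hall : ∀ y v, S.B₂ w y = 0 → S.B₂ w v = 0 →
      ∃ s : F, ∀ c, S.ctr v (h (S.T c y)) = s • c
  · by_cases hline : ∀ y, S.B₂ w y = 0 → S.Line h y
    · exact Or.inl (hasBiv_of_lines ha hb O hh hhT hw hline)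
    push Not at hline
    obtain ⟨y, hy, hnl⟩ := hline
    obtain ⟨c₁, hc₁⟩ : ∃ c : Fin a → F, c = Pi.single ⟨0, ha⟩ 1 := ⟨_, rfl⟩
    obtain ⟨y', hy'⟩ := S.h₂.exists_rep
      (LinearMap.proj ⟨0, ha⟩ ∘ₗ S.ctr.flip (h (S.T c₁ y)))
    have hctr : ∀ v, S.B₂ w v = 0 → ∀ c, S.ctr v (h (S.T c y)) = S.B₂ y' v • c := by
      intro v hv c
      obtain ⟨s, hs⟩ := hall y v hy hv
      rw [hs, hy']
      simp [hs, hc₁]
    obtain ⟨z, hz⟩ := S.h₂.exists_pair_one hw
    obtain ⟨N, hNdef⟩ : ∃ N : Module.End F (Fin a → F),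
        N = S.ctr z ∘ₗ (h.toLinearMap ∘ₗ S.T.flip y - S.T.flip y') := ⟨_, rfl⟩
    have hmap : ∀ c, h (S.T c y) = S.T c y' + S.T (N c) w := fun c => by
      have := S.mem_line (X := h (S.T c y) - S.T c y') hz fun x hx => by
        rw [map_sub, S.ctr_T, hctr x hx, sub_self]
      rw [sub_eq_iff_eq_add'] at this
      rw [this, hNdef]
      simp
    have hy'w : S.B₂ w y' = 0 := by
      rw [S.h₂.swap, hy']
      simp [hctrw h hh hfix, S.ctr_T, S.h₂.swap y w, hy]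
    refine Or.inr (hasCross_of_map O hh hw hy'w (fun s hs => ?_) (fun s hs => hnl ⟨y' + s • w, fun c => ⟨c, ?_⟩⟩)
      hmap)
    · refine hnl ⟨w, fun c => ⟨s • c + N c, ?_⟩⟩
      rw [hmap, hs, map_smul, map_add, LinearMap.add_apply, map_smul, LinearMap.smul_apply]
    · rw [hmap, hs, map_add, map_smul]
      simp
  push Not at hall
  obtain ⟨y, v, hy, hv, hns⟩ := hall
  have hyw : S.B₂ y w = 0 := by rw [S.h₂.swap, hy, neg_zero]
  have hvw : S.B₂ v w = 0 := by rw [S.h₂.swap, hv, neg_zero]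
  have hC : InH H (S.el v w 1 + S.el w v 1) := by
    refine (((O.root (v + w) 1).sub (O.root v 1) (fun X => ?_) fun X => ?_).sub (O.root w 1) (fun X => ?_)
      fun X => ?_).congr fun X => ?_
    all_goals simp [el_apply, S.ctr_T, S.h₂.self, hv, hvw]
    abel
  obtain ⟨k, hk, hkx⟩ := hC.conj (H.inv_mem hh)
  have hky : ∀ c, k (S.T c y) = S.T c y + S.T (S.ctr v (h (S.T c y))) w := fun c => by
    have h0 : S.ctr w (h (S.T c y)) = 0 := by rw [hctrw h hh hfix, S.ctr_T, hyw, zero_smul]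
    have hf : ∀ d, h.symm (S.T d w) = S.T d w := fun d => h.injective (by rw [h.apply_symm_apply, hfix])
    rw [hkx]
    show _ + h.symm (S.el v w 1 (h (S.T c y)) + S.el w v 1 (h (S.T c y))) = _
    simp [el_apply, h0, hf]
  refine Or.inr (hasCross_of_map O hk hw hy (fun s hs => ?_)
    (N := S.ctr v ∘ₗ h.toLinearMap ∘ₗ S.T.flip y) (fun s hs => ?_) hky)
  · obtain ⟨c, hc⟩ := hns 0
    refine hc ?_
    rw [hs, map_smul, map_smul, hfix, map_smul, S.ctr_T, S.h₂.swap w v, hvw]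
    simp
  · obtain ⟨c, hc⟩ := hns s
    exact hc (LinearMap.congr_fun hs c)

/-- An element outside the product maps gives one of the two special elements. -/
theorem biv_or_cross (ha : 0 < a) (hb : 5 ≤ b) (hab : a + 2 ≤ b) (O : S.Over H)
    (hne : ∃ e ∈ H, ¬ S.IsT e) : S.HasBiv H ∨ S.HasCross H := by
  obtain ⟨e, he, heT, w, hw, A, hA⟩ := exists_stable ha hab O hne
  by_cases hl : ∀ y, S.B₂ w y = 0 → S.Line e y
  · exact Or.inl (hasBiv_of_lines ha hb O he heT hw hl)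
  push Not at hl
  obtain ⟨y, hy, hnl⟩ := hl
  have hy0 : y ≠ 0 := by
    rintro rfl
    exact hnl ⟨0, fun c => ⟨0, by simp⟩⟩
  obtain ⟨k, hk, hkx⟩ := O.conj_root he y
  have hAinj : Function.Injective A := (injective_iff_map_eq_zero A).2 fun c hc =>
    S.T_eq_zero hw ((LinearEquiv.map_eq_zero_iff e).1 (by rw [hA, hc, map_zero, LinearMap.zero_apply]))
  refine cases_of_fix ha hb O hk (conj_not_isT ha (by omega) hy0 hkx hnl) hw fun c => ?_
  obtain ⟨c₀, rfl⟩ := LinearMap.surjective_of_injective hAinj c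
  rw [← hA, hkx, e.symm_apply_apply, S.ctr_T, hy]
  simp

end TS

end Cfsg.Agent.SympTensor
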