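import Cfsg.Agent.Lib.SympTensor.Roots
import Cfsg.Agent.Lib.TransvMax.QuadSingular

/-!
All Siegel transformations from the root elements along the first factor.
-/

set_option autoImplicit false

namespace Cfsg.Agent.SympTensor

open Module Submodule
open Cfsg.Agent Cfsg.Agent.TransvMax Cfsg.Agent.ExtFieldMax

variable {F : Type*} [Field F] {ι : Type} [Fintype ι] [DecidableEq ι] {a b : ℕ}
  {Q : QuadraticForm F (ι → F)} {S : TS Q a b}

namespace TS

variable {H : Subgroup ((ι → F) ≃ₗ[F] (ι → F))}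

theorem RootsOne.perp_right (hR : S.RootsOne H) (O : S.Over H) (hb : 5 ≤ b) (p u : Fin a → F) (r y : Fin b → F)
    (hyr : S.B₂ y r = 0) : InH H (sg (Q := Q) (S.T p r) (S.T u y)) := by
  by_cases hu : u = 0
  · exact InH.zero.congr fun X => by simp [hu, sg]
  have hry : S.B₂ r y = 0 := by rw [S.h₂.swap, hyr, neg_zero]
  have main : ∀ p, S.B₁ u p ≠ 0 → InH H (sg (Q := Q) (S.T p r) (S.T u y)) := by
    intro p hup
    obtain ⟨w, hwy, hwr, hw⟩ := S.h₂.exists_perp_two hb y r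
    obtain ⟨r₂, hr₂, hr₂W⟩ := exists_func S.h₂ hw
    have hr₂y : S.B₂ r₂ y = 0 := hr₂W y (subset_span (by simp))
    have hr₂r : S.B₂ r₂ r = 0 := hr₂W r (subset_span (by simp))
    obtain ⟨s, hs⟩ : ∃ s : F, s = -(S.B₁ u p)⁻¹ := ⟨_, rfl⟩
    obtain ⟨g, hg, hgx⟩ := hR p r (s • r₂) (by rw [map_smul, S.h₂.swap, hr₂r]; simp)
    have hwr₂ : S.B₂ w r₂ = -1 := by rw [S.h₂.swap, hr₂]
    have hyr₂ : S.B₂ y r₂ = 0 := by rw [S.h₂.swap, hr₂y, neg_zero]
    have hgw : g (S.T u w) = S.T u w + S.T p r := by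
      rw [hgx]
      simp [sg, polar_T, hwr, hwr₂, hs, hup]
    have hgy : g (S.T u y) = S.T u y := by
      rw [hgx]
      simp [sg, polar_T, hyr, hyr₂]
    have h0 := hR u w y hwy
    have h1 : InH H (sg (Q := Q) (S.T u w + S.T p r) (S.T u y)) := (h0.conj hg).congr fun X => by
      rw [LinearMap.comp_apply, LinearMap.comp_apply, LinearEquiv.coe_coe, LinearEquiv.coe_coe, conj_sg O hg,
        hgw, hgy]
    refine (h1.sub h0 (sg_sg_zero ?_ ?_ ?_ ?_) (sg_sg_zero ?_ ?_ ?_ ?_)).congr fun X => ?_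
    all_goals simp [polar_T, S.pure, S.h₁.self, hyr, hry, hwr, sg]
    module
  by_cases hup : S.B₁ u p = 0
  · obtain ⟨p₀, hp₀⟩ := S.h₁.exists_pair_one hu
    refine ((main (p + p₀) (by rw [map_add, hup, hp₀, zero_add]; exact one_ne_zero)).sub
      (main p₀ (by rw [hp₀]; exact one_ne_zero)) (sg_sg_zero ?_ ?_ ?_ ?_) (sg_sg_zero ?_ ?_ ?_ ?_)).congr fun X => ?_
    all_goals simp [polar_T, S.pure, S.h₁.self, S.h₂.self, hyr, hry, sg]
    module
  · exact main p hup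

theorem RootsOne.perp_left (hR : S.RootsOne H) (O : S.Over H) (hb : 5 ≤ b) (c u : Fin a → F) (r y : Fin b → F)
    (huc : S.B₁ u c = 0) : InH H (sg (Q := Q) (S.T c r) (S.T u y)) := by
  by_cases hu : u = 0
  · exact InH.zero.congr fun X => by simp [hu, sg]
  have hcu : S.B₁ c u = 0 := by rw [S.h₁.swap, huc, neg_zero]
  obtain ⟨w, hwy, hwr, hw⟩ := S.h₂.exists_perp_two hb y r
  obtain ⟨r₁, hr₁, hr₁W⟩ := exists_func S.h₂ hw
  have hr₁y : S.B₂ r₁ y = 0 := hr₁W y (subset_span (by simp))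
  have hr₁r : S.B₂ r₁ r = 0 := hr₁W r (subset_span (by simp))
  have hwr₁ : S.B₂ w r₁ = -1 := by rw [S.h₂.swap, hr₁]
  have hyr₁ : S.B₂ y r₁ = 0 := by rw [S.h₂.swap, hr₁y, neg_zero]
  have hrr₁ : S.B₂ r r₁ = 0 := by rw [S.h₂.swap, hr₁r, neg_zero]
  obtain ⟨p, hp⟩ := S.h₁.exists_pair_one hu
  obtain ⟨g, hg, hgx⟩ := hR.perp_right O hb p c r₁ r hrr₁
  have hgw : g (S.T u w) = S.T u w + S.T c r := by
    rw [hgx]
    simp [sg, polar_T, huc, hp, hwr₁]
  have hgy : g (S.T u y) = S.T u y := by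
    rw [hgx]
    simp [sg, polar_T, huc, hyr₁]
  have h0 := hR u w y hwy
  have h1 : InH H (sg (Q := Q) (S.T u w + S.T c r) (S.T u y)) := (h0.conj hg).congr fun X => by
    rw [LinearMap.comp_apply, LinearMap.comp_apply, LinearEquiv.coe_coe, LinearEquiv.coe_coe, conj_sg O hg,
      hgw, hgy]
  refine (h1.sub h0 (sg_sg_zero ?_ ?_ ?_ ?_) (sg_sg_zero ?_ ?_ ?_ ?_)).congr fun X => ?_
  all_goals simp [polar_T, S.pure, S.h₁.self, huc, hcu, sg]
  module

theorem good_centre (hR : S.RootsOne H) (O : S.Over H) (hb : 5 ≤ b) (SQ : QMax.QSetting Q) {K : Subgroup (GL ι F)}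
    (hK : ∀ g ∈ H, glOf g ∈ K) {u u₁ : Fin a → F} {w w₁ : Fin b → F} (hu₁ : S.B₁ u₁ u = 1) (hw₁ : S.B₂ w₁ w = 1) :
    ∀ z (hz : pB Q z (S.T u w) = 0), glOf (SQ.siegel (S.T u w) z (S.pure u w) hz) ∈ K := by
  have hu := S.pure u w
  let Good : (ι → F) → Prop := fun z => ∃ hz : pB Q z (S.T u w) = 0, glOf (SQ.siegel (S.T u w) z hu hz) ∈ K
  have hpure : ∀ c y, pB Q (S.T c y) (S.T u w) = 0 → InH H (sg (Q := Q) (S.T c y) (S.T u w)) →
      Good (S.T c y) := by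
    intro c y hz hin
    obtain ⟨g, hg, hgx⟩ := hin
    refine ⟨hz, ?_⟩
    convert hK g hg using 2
    refine LinearEquiv.ext fun X => ?_
    rw [SQ.siegel_apply, siegelHom_apply, hgx, S.pure]
    simp [sg]
    abel
  have hadd : ∀ z z', Good z → Good z' → Good (z + z') := by
    rintro z z' ⟨hz, h1⟩ ⟨hz', h2⟩
    refine ⟨by rw [map_add, LinearMap.add_apply, hz, hz', add_zero], ?_⟩
    rw [← SQ.siegel_mul hu hz hz', map_mul]
    exact K.mul_mem h1 h2
  have hzero : Good 0 := by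
    have := hpure 0 0 (by simp) (InH.zero.congr fun X => by simp [sg])
    simpa using this
  have h11 : pB Q (S.T u₁ w₁) (S.T u w) = 1 := by rw [S.polar, hu₁, hw₁, one_mul]
  have hπT : ∀ c y, Good (S.T c y - pB Q (S.T c y) (S.T u w) • S.T u₁ w₁) := by
    intro c y
    have e : S.T c y - pB Q (S.T c y) (S.T u w) • S.T u₁ w₁ =
        S.T (c - S.B₁ c u • u₁) y + S.T (S.B₁ c u • u₁) (y - S.B₂ y w • w₁) := by
      rw [S.polar]
      simp only [map_sub, LinearMap.sub_apply, map_smul, LinearMap.smul_apply]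
      module
    rw [e]
    have e1 : S.B₁ (c - S.B₁ c u • u₁) u = 0 := by simp [hu₁]
    have e2 : S.B₂ (y - S.B₂ y w • w₁) w = 0 := by simp [hw₁]
    exact hadd _ _ (hpure _ _ (by rw [S.polar, e1, zero_mul])
        (hR.perp_left O hb _ _ _ _ (by rw [S.h₁.swap, e1, neg_zero])))
      (hpure _ _ (by rw [S.polar, e2, mul_zero]) (hR.perp_right O hb _ _ _ _ (by rw [S.h₂.swap, e2, neg_zero])))
  have hπ : ∀ z, Good (z - pB Q z (S.T u w) • S.T u₁ w₁) := by
    intro z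
    obtain ⟨M, rfl⟩ := S.L.surjective z
    rw [TensorMax.rows_sum M, map_sum]
    refine Finset.sum_induction _ (fun z => Good (z - pB Q z (S.T u w) • S.T u₁ w₁)) (fun z z' h1 h2 => ?_) ?_
      (fun i _ => by rw [S.hL]; exact hπT _ _)
    · have := hadd _ _ h1 h2
      convert this using 1
      rw [map_add, LinearMap.add_apply]
      module
    · simpa using hzero
  intro z hz
  obtain ⟨_, h⟩ := hπ z
  convert h using 3 <;> simp [hz]

/-- The derived orthogonal group is inside every overgroup with root elements. -/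
theorem omega_le [Finite F] (hR : S.RootsOne H) (O : S.Over H) (ha : 0 < a) (hb : 5 ≤ b) (SQ : QMax.QSetting Q)
    {K : Subgroup (GL ι F)} (hK : ∀ g ∈ H, glOf g ∈ K) : Cfsg.Geo.omegaGL ⇑Q ≤ K := by
  obtain ⟨u, hu⟩ : ∃ u : Fin a → F, u ≠ 0 := ⟨Pi.single ⟨0, ha⟩ 1, by simp⟩
  obtain ⟨w, hw⟩ : ∃ w : Fin b → F, w ≠ 0 := ⟨Pi.single ⟨0, by omega⟩ 1, by simp⟩
  obtain ⟨u₁, hu₁⟩ := S.h₁.exists_pair_one hu
  obtain ⟨w₁, hw₁⟩ := S.h₂.exists_pair_one hw
  have hu₁' : S.B₁ (-u₁) u = 1 := by rw [map_neg, LinearMap.neg_apply, S.h₁.swap, hu₁, neg_neg]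
  have hw₁' : S.B₂ (-w₁) w = 1 := by rw [map_neg, LinearMap.neg_apply, S.h₂.swap, hw₁, neg_neg]
  refine QMax.omegaGL_le_of_siegel SQ (QMax.siegel_mem_of_pair SQ (S.pure u w) (S.pure (-u₁) (-w₁)) ?_
    (good_centre hR O hb SQ hK hu₁' hw₁') (good_centre hR O hb SQ hK (u₁ := -u) (w₁ := -w) ?_ ?_))
  · rw [S.polar, S.h₁.swap, S.h₂.swap w, hu₁', hw₁']
    norm_num
  · simp [hu₁]
  · simp [hw₁]

end TS

end Cfsg.Agent.SympTensor
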