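import Cfsg.Agent.Lib.SympTensor.Basic

/-!
An element moving tensors gives one that maps a line of tensors to a line.
-/

set_option autoImplicit false

namespace Cfsg.Agent.SympTensor

open Module Submodule
open Cfsg.Agent Cfsg.Agent.TransvMax Cfsg.Agent.ExtFieldMax

variable {F : Type*} [Field F] {ι : Type} [Fintype ι] [DecidableEq ι] {a b : ℕ}
  {Q : QuadraticForm F (ι → F)} {S : TS Q a b} {H : Subgroup ((ι → F) ≃ₗ[F] (ι → F))}

namespace TS

/-- The conjugated root element. -/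
theorem Over.conj_root (O : S.Over H) {e : (ι → F) ≃ₗ[F] (ι → F)} (he : e ∈ H) (y : Fin b → F) :
    ∃ k ∈ H, ∀ X, k X = X + e (S.T (S.ctr y (e.symm X)) y) := by
  obtain ⟨k, hk, hkx⟩ := (O.root y 1).conj he
  exact ⟨k, hk, fun X => by rw [hkx]; simp [el_apply]⟩

theorem conj_not_isT (ha : 0 < a) (hab : a < b) {e k : (ι → F) ≃ₗ[F] (ι → F)} {y : Fin b → F} (hy : y ≠ 0)
    (hk : ∀ X, k X = X + e (S.T (S.ctr y (e.symm X)) y)) (hnl : ¬ S.Line e y) : ¬ S.IsT k := by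
  rintro ⟨g₁, g₂, hg⟩
  have hmem : ∀ X, k X - X ∈ LinearMap.range (e.toLinearMap ∘ₗ S.T.flip y) := fun X =>
    ⟨S.ctr y (e.symm X), by rw [hk, add_sub_cancel_left]; rfl⟩
  have hrange : finrank F (LinearMap.range (e.toLinearMap ∘ₗ S.T.flip y)) ≤ a :=
    (LinearMap.finrank_range_le _).trans_eq (Module.finrank_fin_fun F)
  by_cases hs : ∃ c, ∀ s : F, g₁ c ≠ s • c
  · obtain ⟨c, hc⟩ := hs
    let M : (Fin b → F) →ₗ[F] (ι → F) := k.toLinearMap ∘ₗ S.T c - S.T c
    have hinj : Function.Injective M := by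
      rw [injective_iff_map_eq_zero]
      intro z hz
      have hz' : S.T (g₁ c) (g₂ z) = S.T c z := by rw [← hg]; exact sub_eq_zero.1 hz
      refine S.h₂.nd z fun w => ?_
      have h1 := congrArg (S.ctr w) hz'
      rw [S.ctr_T, S.ctr_T] at h1
      by_contra hne
      by_cases h0 : S.B₂ (g₂ z) w = 0
      · rw [h0, zero_smul, eq_comm, smul_eq_zero] at h1
        exact hc 0 (by rw [h1.resolve_left hne, map_zero, zero_smul])
      · exact hc ((S.B₂ (g₂ z) w)⁻¹ * S.B₂ z w) (by rw [mul_smul, ← h1, smul_smul, inv_mul_cancel₀ h0, one_smul])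
    have hle : LinearMap.range M ≤ LinearMap.range (e.toLinearMap ∘ₗ S.T.flip y) := by
      rintro _ ⟨z, rfl⟩
      exact hmem _
    have := Submodule.finrank_mono hle
    rw [LinearMap.finrank_range_of_inj hinj, Module.finrank_fin_fun] at this
    omega
  push Not at hs
  obtain ⟨α, hα⟩ := LinearMap.exists_eq_smul_id_of_forall_notLinearIndependent (f := g₁) fun v hli => by
    obtain ⟨s, hs'⟩ := hs v
    exact (LinearIndependent.pair_iff' (hli.ne_zero 0)).1 hli s hs'.symm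
  have hres : ∀ c z, k (S.T c z) - S.T c z = S.T c (α • g₂ z - z) := by
    intro c z
    rw [hg, hα]
    simp
  by_cases hR : ∀ z, α • g₂ z - z = 0
  · have hk1 : k.toLinearMap = LinearMap.id := S.ext_T fun c z => by
      have := hres c z
      rw [hR, map_zero, sub_eq_zero] at this
      exact this
    obtain ⟨v, hv⟩ := S.h₂.exists_pair_one hy
    have h1 := hk (e (S.T (Pi.single ⟨0, ha⟩ 1) (-v)))
    have hvy : S.B₂ (-v) y = 1 := by rw [map_neg, LinearMap.neg_apply, S.h₂.swap, neg_neg, hv]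
    rw [show k (e (S.T (Pi.single ⟨0, ha⟩ 1) (-v))) = e (S.T (Pi.single ⟨0, ha⟩ 1) (-v)) from
      LinearMap.congr_fun hk1 _, e.symm_apply_apply, S.ctr_T, hvy, one_smul, left_eq_add,
      LinearEquiv.map_eq_zero_iff] at h1
    have := S.T_eq_zero hy h1
    simp at this
  push Not at hR
  obtain ⟨z, hz⟩ := hR
  set w := α • g₂ z - z with hw
  let M : (Fin a → F) →ₗ[F] (ι → F) := S.T.flip w
  have hinj : Function.Injective M := (injective_iff_map_eq_zero M).2 fun c hc => S.T_eq_zero hz hc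
  have hle : LinearMap.range M ≤ LinearMap.range (e.toLinearMap ∘ₗ S.T.flip y) := by
    rintro _ ⟨c, rfl⟩
    show S.T c w ∈ _
    rw [hw, ← hres]
    exact hmem _
  have heq := Submodule.eq_of_le_of_finrank_le hle (by
    rw [LinearMap.finrank_range_of_inj hinj, Module.finrank_fin_fun]; exact hrange)
  refine hnl ⟨w, fun c => ?_⟩
  have : e (S.T c y) ∈ LinearMap.range (e.toLinearMap ∘ₗ S.T.flip y) := ⟨c, rfl⟩
  rw [← heq] at this
  obtain ⟨d, hd⟩ := this
  exact ⟨d, hd.symm⟩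

/-- Some element outside the product maps maps a line to a line. -/
theorem exists_line (ha : 0 < a) (hab : a + 2 ≤ b) (O : S.Over H) (hne : ∃ e ∈ H, ¬ S.IsT e) :
    ∃ e ∈ H, ¬ S.IsT e ∧ ∃ w, w ≠ 0 ∧ S.Line e w := by
  classical
  by_contra hall
  push Not at hall
  suffices key : ∀ k, ∀ g ∈ H, ¬ S.IsT g → ∀ w : Fin b → F, w ≠ 0 → ∀ Kf : Submodule F (Fin a → F),
      (∀ c ∈ Kf, g (S.T c w) = S.T c w) → a ≤ finrank F Kf + k → False by
    obtain ⟨e, he, hne⟩ := hne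
    exact key a e he hne (Pi.single ⟨0, by omega⟩ 1) (by simp) ⊥ (by simp) (by simp)
  intro k
  induction k with
  | zero =>
    intro g hg hgT w hw Kf hfix hle
    have htop : Kf = ⊤ := Submodule.eq_top_of_finrank_eq (le_antisymm (Submodule.finrank_le _) (by
      rw [Module.finrank_fin_fun]; omega))
    exact hall g hg hgT w hw ⟨w, fun c => ⟨c, hfix c (by rw [htop]; trivial)⟩⟩
  | succ k ih =>
    intro g hg hgT w hw Kf hfix hle
    by_cases htop : ∀ c, c ∈ Kf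
    · exact hall g hg hgT w hw ⟨w, fun c => ⟨c, hfix c (htop c)⟩⟩
    push Not at htop
    obtain ⟨c₀, hc₀⟩ := htop
    obtain ⟨y, hy, hyL⟩ := exists_ker_ne (n := b)
      (LinearMap.prod (S.ctr.flip (g.symm (S.T c₀ w))) (S.B₂ w)) (by
        rw [Module.finrank_prod, Module.finrank_fin_fun, Module.finrank_self]; omega)
    have hy1 : S.ctr y (g.symm (S.T c₀ w)) = 0 := congrArg Prod.fst hyL
    have hy2 : S.B₂ w y = 0 := congrArg Prod.snd hyL
    obtain ⟨g', hg', hgx⟩ := O.conj_root hg y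
    refine ih g' hg' (conj_not_isT ha (by omega) hy hgx (hall g hg hgT y hy)) w hw (Kf ⊔ (F ∙ c₀)) ?_ ?_
    · intro c hc
      obtain ⟨c₁, hc₁, c₂, hc₂, rfl⟩ := Submodule.mem_sup.1 hc
      obtain ⟨s, rfl⟩ := Submodule.mem_span_singleton.1 hc₂
      have h1 : g' (S.T c₁ w) = S.T c₁ w := by
        have : g.symm (S.T c₁ w) = S.T c₁ w := g.injective (by rw [g.apply_symm_apply, hfix c₁ hc₁])
        rw [hgx, this, S.ctr_T, hy2]; simp
      have h2 : g' (S.T c₀ w) = S.T c₀ w := by rw [hgx, hy1]; simp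
      simp [h1, h2]
    · have : finrank F Kf < finrank F (Kf ⊔ (F ∙ c₀) : Submodule F (Fin a → F)) :=
        Submodule.finrank_lt_finrank_of_lt (lt_of_le_of_ne le_sup_left fun h => hc₀ (by
          rw [h]; exact Submodule.mem_sup_right (Submodule.mem_span_singleton_self c₀)))
      omega

theorem isT_mul {f g : (ι → F) ≃ₗ[F] (ι → F)} (hf : S.IsT f) (hg : S.IsT g) : S.IsT (f * g) := by
  obtain ⟨f₁, f₂, hf⟩ := hf
  obtain ⟨g₁, g₂, hg⟩ := hg
  exact ⟨f₁ ∘ₗ g₁, f₂ ∘ₗ g₂, fun c y => by simp [hg, hf]⟩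

/-- A line going to itself. -/
theorem exists_stable (ha : 0 < a) (hab : a + 2 ≤ b) (O : S.Over H) (hne : ∃ e ∈ H, ¬ S.IsT e) :
    ∃ e ∈ H, ¬ S.IsT e ∧ ∃ w, w ≠ 0 ∧ ∃ A : Module.End F (Fin a → F), ∀ c, e (S.T c w) = S.T (A c) w := by
  obtain ⟨e, he, heT, w, hw, w', hline⟩ := exists_line ha hab O hne
  have hw' : w' ≠ 0 := by
    rintro rfl
    obtain ⟨d, hd⟩ := hline (Pi.single ⟨0, ha⟩ 1)
    rw [map_zero, LinearEquiv.map_eq_zero_iff] at hd
    have := S.T_eq_zero hw hd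
    simp at this
  obtain ⟨g, hg, g₂, hg₂i, hgx, hgw⟩ : ∃ g ∈ H, ∃ g₂ : (Fin b → F) →ₗ[F] (Fin b → F),
      Function.Injective g₂ ∧ (∀ c y, g (S.T c y) = S.T c (g₂ y)) ∧ g₂ w' = w := by
    refine vec_all S.h₂ (fun x => ∃ g ∈ H, ∃ g₂ : (Fin b → F) →ₗ[F] (Fin b → F),
      Function.Injective g₂ ∧ (∀ c y, g (S.T c y) = S.T c (g₂ y)) ∧ g₂ w' = x) (fun v t x hx => ?_) hw' hw ?_
    · obtain ⟨g, hg, g₂, hinj, hgx, hgw⟩ := hx
      obtain ⟨r, hr, τ, hτ, hτi, hrx⟩ := O.exists_right v t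
      refine ⟨r * g, H.mul_mem hr hg, τ ∘ₗ g₂, ?_, fun c y => ?_, by rw [LinearMap.comp_apply, hgw, hτ]⟩
      · refine ((injective_iff_map_eq_zero τ).2 fun y hy => S.h₂.nd y fun z => ?_).comp hinj
        rw [← hτi, hy, map_zero, LinearMap.zero_apply]
      · rw [LinearEquiv.mul_apply, hgx, hrx]; rfl
    · exact ⟨1, H.one_mem, LinearMap.id, Function.injective_id, fun c y => rfl, rfl⟩
  obtain ⟨v, hv⟩ := S.h₂.exists_pair_one hw
  refine ⟨g * e, H.mul_mem hg he, fun hT => heT ?_, w, hw,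
    S.ctr v ∘ₗ (g * e : (ι → F) ≃ₗ[F] (ι → F)).toLinearMap ∘ₗ S.T.flip w, fun c => ?_⟩
  · have hgi : S.IsT g⁻¹ := by
      obtain ⟨i₂, hi⟩ := g₂.exists_leftInverse_of_injective (LinearMap.ker_eq_bot.2 hg₂i)
      refine ⟨LinearMap.id, i₂, fun c y => ?_⟩
      obtain ⟨z, rfl⟩ := LinearMap.surjective_of_injective hg₂i y
      rw [← hgx]
      show g.symm (g (S.T c z)) = _
      rw [g.symm_apply_apply]
      show S.T c z = S.T c (i₂ (g₂ z))
      rw [show i₂ (g₂ z) = z from LinearMap.congr_fun hi z]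
    have := isT_mul hgi hT
    rwa [inv_mul_cancel_left] at this
  · obtain ⟨d, hd⟩ := hline c
    simp [hd, hgx, hgw, S.ctr_T, hv]

end TS

end Cfsg.Agent.SympTensor
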