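import Cfsg.Agent.Lib.SympTensor.Gen
import Cfsg.Agent.Lib.TransvMax.TensorEl
import Cfsg.Agent.Lib.TransvMax.TensorForms
import Cfsg.Agent.Lib.Forms.Models

/-!
The stabiliser of a decomposition into symplectic factors is maximal in the derived orthogonal group.
-/

set_option autoImplicit false

namespace Cfsg.Agent.SympTensor

open Module Submodule
open Cfsg.Agent Cfsg.Agent.TransvMax Cfsg.Agent.ExtFieldMax
open scoped Matrix

variable {F : Type*} [Field F] {ι : Type} [Fintype ι] [DecidableEq ι] {a b : ℕ}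
  {Q : QuadraticForm F (ι → F)}

theorem even_of_isAlt {n : ℕ} {B : LinearMap.BilinForm F (Fin n → F)} (h : IsAlt B) : Even n := by
  have hA : LinearMap.IsAlt B := h.self
  have hnd : LinearMap.Nondegenerate B :=
    ⟨h.nd, fun y hy => h.nd y fun x => by rw [h.swap, hy x, neg_zero]⟩
  obtain ⟨m, bb, -⟩ := Cfsg.Agent.FormsLib.exists_symplectic_basis_nondeg hA hnd
  have := Module.finrank_eq_card_basis bb
  rw [Fintype.card_sum, Fintype.card_fin, Module.finrank_fin_fun] at this
  exact ⟨m, this⟩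

namespace TS

variable (S : TS Q a b)

/-- The factors interchanged. -/
noncomputable def swap : TS Q b a where
  T := S.T.flip
  L := (Matrix.transposeLinearEquiv (Fin b) (Fin a) F F).trans S.L
  hL c y := by
    show S.L (Matrix.vecMulVec c y).transpose = S.T y c
    rw [Matrix.transpose_vecMulVec, S.hL]
  B₁ := S.B₂
  B₂ := S.B₁
  h₁ := S.h₂
  h₂ := S.h₁
  polar c y d z := by
    show pB Q (S.T y c) (S.T z d) = _
    rw [S.polar, mul_comm]
  pure c y := S.pure y c
  ctr := LinearMap.mk₂ F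
    (fun (v : Fin a → F) (X : ι → F) => Matrix.vecMul (fun i => S.B₁ (Pi.single i 1) v) (S.L.symm X))
    (fun u v X => by rw [← Matrix.add_vecMul]; congr 1; funext i; simp)
    (fun t v X => by rw [← Matrix.smul_vecMul]; congr 1; funext i; simp)
    (fun v X Y => by rw [map_add, Matrix.vecMul_add])
    (fun t v X => by rw [map_smul, Matrix.vecMul_smul])
  ctr_T w c y := by
    show Matrix.vecMul (fun i => S.B₁ (Pi.single i 1) w) (S.L.symm (S.T y c)) = _
    rw [← S.hL, S.L.symm_apply_apply, Matrix.vecMul_vecMulVec]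
    congr 1
    conv_rhs => rw [pi_eq_sum_univ' y, map_sum, LinearMap.sum_apply]
    exact Finset.sum_congr rfl fun i _ => by rw [map_smul, LinearMap.smul_apply, smul_eq_mul, mul_comm]
  nd := S.nd

variable {S}

theorem InH_sum {H : Subgroup ((ι → F) ≃ₗ[F] (ι → F))} {α : Type*} (s : Finset α)
    (f : α → Module.End F (Fin a → F)) (w : Fin b → F) (hf : ∀ x ∈ s, InH H (S.el w w (f x))) :
    InH H (S.el w w (∑ x ∈ s, f x)) := by
  classical
  induction s using Finset.induction_on with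
  | empty => exact InH.zero.congr fun X => by simp [el_apply]
  | insert x s hx ih =>
    rw [Finset.sum_insert hx]
    refine ((hf x (Finset.mem_insert_self x s)).add (ih fun y hy => hf y (Finset.mem_insert_of_mem hy))
      fun X => by simp [el_el, S.h₂.self]).congr fun X => by simp [el_apply]

theorem root_mem_omega [Finite F] (SQ : QMax.QSetting Q) (w : Fin b → F) (t : F) :
    InH ((Cfsg.Geo.omegaGL ⇑Q).comap (glOf (ι := ι) (F := F))) (S.el w w (t • 1)) := by
  classical
  have hdual : ∀ j : Fin a, ∃ r, ∀ d, S.B₁ r d = d j := fun j => S.h₁.exists_rep (LinearMap.proj j)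
  choose r hr using hdual
  let A : Fin a → Fin a → F := fun i j => (r i) j
  have hA : ∀ i j, A i j = S.B₁ (r j) (r i) := fun i j => (hr j _).symm
  have hA0 : ∀ i, A i i = 0 := fun i => by rw [hA, S.h₁.self]
  have hAs : ∀ i j, A j i = -A i j := fun i j => by rw [hA, hA, S.h₁.swap]
  have hid : (t • 1 : Module.End F (Fin a → F)) = ∑ x : Fin a × Fin a,
      if x.1 < x.2 then S.biv ((-(t * A x.1 x.2)) • Pi.single x.1 1) (Pi.single x.2 1) else 0 := by
    refine LinearMap.ext fun c => funext fun k => ?_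
    have hc : ∀ k, c k = ∑ j, -(A k j * S.B₁ c (Pi.single j 1)) := fun k => by
      have h1 : c k = -S.B₁ c (r k) := by rw [← hr k c, S.h₁.swap]
      rw [h1]
      conv_lhs => rw [pi_eq_sum_univ' (r k), map_sum, ← Finset.sum_neg_distrib]
      refine Finset.sum_congr rfl fun j _ => ?_
      rw [map_smul, smul_eq_mul]
    rw [LinearMap.sum_apply, Finset.sum_apply, Fintype.sum_prod_type]
    have e : ∀ i j, ((if i < j then S.biv ((-(t * A i j)) • Pi.single i 1) (Pi.single j 1) else 0) c) k =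
        (if i < j then (if k = i then -(t * A i j) * S.B₁ c (Pi.single j 1) else 0) else 0) +
          (if i < j then (if k = j then t * A i j * S.B₁ c (Pi.single i 1) else 0) else 0) := fun i j => by
      by_cases hij : i < j
      · simp only [if_pos hij, biv, LinearMap.sub_apply, r1_apply, map_smul, Pi.sub_apply, Pi.smul_apply,
          smul_eq_mul, Pi.single_apply]
        split_ifs <;> ring
      · simp [hij]
    simp only [e, Finset.sum_add_distrib]
    rw [Finset.sum_eq_single k (fun i _ hi => by simp [Ne.symm hi]) (by simp)]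
    conv_rhs => arg 2; rw [Finset.sum_comm, Finset.sum_eq_single k (fun i _ hi => by simp [Ne.symm hi]) (by simp)]
    rw [← Finset.sum_add_distrib, LinearMap.smul_apply, Module.End.one_apply, Pi.smul_apply, smul_eq_mul, hc k,
      Finset.mul_sum]
    refine Finset.sum_congr rfl fun j _ => ?_
    rcases lt_trichotomy k j with h | h | h
    · simp [h, h.not_gt]; ring
    · subst h; simp [hA0]
    · simp [h, h.not_gt, hAs j k]; ring
  rw [hid]
  refine InH_sum _ _ w fun x _ => ?_
  by_cases hx : x.1 < x.2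
  swap
  · rw [if_neg hx]; exact InH.zero.congr fun X => by simp [el_apply]
  rw [if_pos hx]
  have hp : pB Q (S.T ((-(t * A x.1 x.2)) • Pi.single x.1 1) w) (S.T (Pi.single x.2 1) w) = 0 := by
    rw [S.polar, S.h₂.self, mul_zero]
  refine ⟨SQ.siegel _ _ (S.pure (Pi.single x.2 1) w) hp, QMax.glOf_siegel_mem_omega SQ _ hp, fun X => ?_⟩
  rw [SQ.siegel_apply, siegelHom_apply, S.pure, zero_mul, zero_smul, sub_zero]
  have := S.sg_T ((-(t * A x.1 x.2)) • Pi.single x.1 1) (Pi.single x.2 1) w w X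
  simp only [sg, LinearMap.sub_apply, LinearMap.smulRight_apply] at this
  rw [add_sub_assoc]
  congr 1
  refine this.trans ?_
  simp [el_apply, biv]

/-- The transvections of the second factor in the derived group. -/
theorem right_mem_omega [Finite F] (SQ : QMax.QSetting Q) (v : Fin b → F) (t : F) :
    ∃ g, glOf g ∈ Cfsg.Geo.omegaGL ⇑Q ∧ ∀ c y, g (S.T c y) = S.T c (tv S.B₂ v t y) := by
  obtain ⟨g, hg, hgx⟩ := root_mem_omega (S := S) SQ v t
  refine ⟨g, hg, fun c y => ?_⟩
  rw [hgx]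
  simp [el_apply, S.ctr_T, tv, smul_smul, mul_comm]

theorem exists_not_isT [Finite F] (SQ : QMax.QSetting Q) (ha : 2 ≤ a) (hb : 5 ≤ b) :
    ∃ g, glOf g ∈ Cfsg.Geo.omegaGL ⇑Q ∧ ¬ S.IsT g := by
  obtain ⟨u, hu⟩ : ∃ u : Fin a → F, u ≠ 0 := ⟨Pi.single ⟨0, by omega⟩ 1, by simp⟩
  obtain ⟨u₁, hu₁⟩ := S.h₁.exists_pair_one hu
  obtain ⟨w, hw⟩ : ∃ w : Fin b → F, w ≠ 0 := ⟨Pi.single ⟨0, by omega⟩ 1, by simp⟩
  obtain ⟨y, hyw, -, hy⟩ := S.h₂.exists_perp_two hb w w
  have hys : y ∉ span F ({w} : Set (Fin b → F)) := fun h => hy (span_mono (by simp) h)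
  obtain ⟨z, hzy, hzW⟩ := exists_func S.h₂ hys
  have hzw : S.B₂ z w = 0 := hzW w (subset_span (by simp))
  have hp : pB Q (S.T u w) (S.T u y) = 0 := by rw [S.polar, S.h₁.self, zero_mul]
  refine ⟨SQ.siegel _ _ (S.pure u y) hp, QMax.glOf_siegel_mem_omega SQ _ hp, ?_⟩
  rintro ⟨g₁, g₂, hg⟩
  have h := hg u₁ z
  have hu₁' : S.B₁ u₁ u = -1 := by rw [S.h₁.swap, hu₁]
  rw [SQ.siegel_apply, siegelHom_apply, S.pure, zero_mul, zero_smul, sub_zero, S.polar, S.polar, hzy, hzw, hu₁',
    mul_one, mul_zero, zero_smul, sub_zero] at h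
  have hctr : ∀ x, S.B₂ z x • u₁ + (-S.B₂ w x) • u = S.B₂ (g₂ z) x • g₁ u₁ := fun x => by
    have := congrArg (S.ctr x) h
    simpa [S.ctr_T] using this
  have hzw' : z ∉ span F ({w} : Set (Fin b → F)) := fun hm => by
    obtain ⟨s, hs⟩ := Submodule.mem_span_singleton.1 hm
    rw [← hs, map_smul, LinearMap.smul_apply, S.h₂.swap w y, hyw, neg_zero, smul_zero] at hzy
    exact zero_ne_one hzy
  obtain ⟨x₁, hx₁, hx₁W⟩ := exists_func S.h₂ hzw'
  have h1 := hctr (-x₁)
  have hwz : w ∉ span F ({z} : Set (Fin b → F)) := fun hm => by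
    obtain ⟨s, hs⟩ := Submodule.mem_span_singleton.1 hm
    by_cases hs0 : s = 0
    · exact hw (by rw [← hs, hs0, zero_smul])
    · exact hzw' (Submodule.mem_span_singleton.2 ⟨s⁻¹, by rw [← hs, smul_smul, inv_mul_cancel₀ hs0, one_smul]⟩)
  obtain ⟨x₂, hx₂, hx₂W⟩ := exists_func S.h₂ hwz
  have h2 := hctr x₂
  rw [map_neg, map_neg, S.h₂.swap z x₁, neg_neg, hx₁, S.h₂.swap w x₁, neg_neg, hx₁W w (subset_span (by simp)),
    neg_zero, zero_smul, add_zero, one_smul] at h1
  rw [S.h₂.swap z x₂, hx₂W z (subset_span (by simp)), neg_zero, zero_smul, zero_add, S.h₂.swap w x₂, neg_neg, hx₂,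
    one_smul] at h2
  have h3 : S.B₁ u u₁ = 0 := by rw [h1, h2]; simp [S.h₁.self]
  rw [hu₁] at h3
  exact one_ne_zero h3

end TS

section Wrap

variable [Fintype F] {n : ℕ}

theorem maximal {Q : (Fin n → F) → F} (hn : 13 ≤ n) (hQ : Cfsg.Geo.IsNondegenerateQuadraticForm Q) {n₁ n₂ : ℕ}
    (h12 : n₁ < n₂) (hex : ¬ (Fintype.card F = 2 ∧ n₁ = 2)) (e : Fin n ≃ Fin n₁ × Fin n₂) (P : GL (Fin n) F)
    {f₁ : (Fin n₁ → F) → (Fin n₁ → F) → F} {f₂ : (Fin n₂ → F) → (Fin n₂ → F) → F}
    (hf₁ : Cfsg.Geo.IsSymplecticForm f₁) (hf₂ : Cfsg.Geo.IsSymplecticForm f₂)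
    (hT : Cfsg.Geo.IsTensorFormStructure id (QuadraticMap.polar Q) f₁ f₂ e P)
    (hpure : ∀ (x₁ : Fin n₁ → F) (x₂ : Fin n₂ → F),
      Q (Matrix.mulVec (P : Matrix (Fin n) (Fin n) F) ((fun a : Fin n₁ × Fin n₂ => x₁ a.1 * x₂ a.2) ∘ e)) = 0) :
    Cfsg.Geo.IsMaximalIn (Cfsg.Geo.omegaGL Q)
      (Cfsg.Geo.tensorProductSubgroup n₁ n₂ e P ⊓ Cfsg.Geo.omegaGL Q) := by
  classical
  let QF : QuadraticForm F (Fin n → F) := QuadraticMap.ofPolar Q
    (fun a x => by rw [hQ.smul, smul_eq_mul, pow_two])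
    (fun x x' y => hQ.polar_bilinear.add_left x x' y)
    (fun a x y => hQ.polar_bilinear.smul_left a x y)
  have SQ : QMax.QSetting QF := ⟨⟨fun v hv => by
      by_contra h0
      obtain ⟨x, hx⟩ := (hQ.nondegenerate v h0).2
      exact hx (hv x), fun v hv => by
      by_contra h0
      obtain ⟨x, hx⟩ := (hQ.nondegenerate v h0).1
      exact hx (hv x)⟩, by simp only [Fintype.card_fin]; omega⟩
  obtain ⟨c₀, hc₀, hform⟩ := TensorSmall.form_tp e P (fun _ _ => rfl) (TensorSmall.sesq_of_bilinear hf₁.bilinear)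
    (TensorSmall.sesq_of_bilinear hf₂.bilinear) hT
  let B₁ : LinearMap.BilinForm F (Fin n₁ → F) := c₀ • LinearMap.mk₂ F f₁ hf₁.bilinear.add_left
    hf₁.bilinear.smul_left hf₁.bilinear.add_right hf₁.bilinear.smul_right
  let B₂ : LinearMap.BilinForm F (Fin n₂ → F) := LinearMap.mk₂ F f₂ hf₂.bilinear.add_left
    hf₂.bilinear.smul_left hf₂.bilinear.add_right hf₂.bilinear.smul_right
  have h₁ : IsAlt B₁ := ⟨fun c => by simp [B₁, hf₁.alternating], fun c hc => by
    by_contra h0
    obtain ⟨x, hx⟩ := (hf₁.nondegenerate c h0).2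
    exact hx (by simpa [B₁, hc₀] using hc x)⟩
  have h₂ : IsAlt B₂ := ⟨fun c => by simp [B₂, hf₂.alternating], fun c hc => by
    by_contra h0
    obtain ⟨x, hx⟩ := (hf₂.nondegenerate c h0).2
    exact hx (by simpa [B₂] using hc x)⟩
  let L := TensorEl.coord e P
  have hLT : ∀ c y, L (Matrix.vecMulVec c y) = TensorSmall.tp e P c y := fun c y => by
    rw [TensorEl.coord_apply]; rfl
  let S : TS QF n₁ n₂ :=
    { T := LinearMap.mk₂ F (fun c y => L (Matrix.vecMulVec c y))
        (fun c d y => by rw [Matrix.add_vecMulVec, map_add])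
        (fun t c y => by rw [Matrix.smul_vecMulVec, map_smul])
        (fun c y z => by rw [Matrix.vecMulVec_add, map_add])
        (fun t c y => by rw [Matrix.vecMulVec_smul, map_smul])
      L := L
      hL := fun c y => rfl
      B₁ := B₁
      B₂ := B₂
      h₁ := h₁
      h₂ := h₂
      polar := fun c y d z => by
        show QuadraticMap.polar Q (L (Matrix.vecMulVec c y)) (L (Matrix.vecMulVec d z)) = _
        rw [hLT, hLT, hform]
        simp [B₁, B₂, mul_assoc]
      pure := fun c y => by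
        show Q (L (Matrix.vecMulVec c y)) = 0
        rw [hLT]; exact hpure c y
      ctr := LinearMap.mk₂ F
        (fun (w : Fin n₂ → F) (X : Fin n → F) => (L.symm X) *ᵥ fun j => B₂ (Pi.single j 1) w)
        (fun u v X => by rw [← Matrix.mulVec_add]; congr 1; funext i; simp)
        (fun t v X => by rw [← Matrix.mulVec_smul]; congr 1; funext i; simp)
        (fun v X Y => by rw [map_add, Matrix.add_mulVec])
        (fun t v X => by rw [map_smul, Matrix.smul_mulVec])
      ctr_T := fun w c y => by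
        show (L.symm (L (Matrix.vecMulVec c y))) *ᵥ _ = _
        rw [L.symm_apply_apply, TensorMax.pure_ctr]
        congr 1
        conv_rhs => rw [pi_eq_sum_univ' y, map_sum, LinearMap.sum_apply]
        exact Finset.sum_congr rfl fun i _ => by rw [map_smul, LinearMap.smul_apply]; rfl
      nd := fun X h => SQ.nondeg.1 X h }
  -- the sizes
  have heven₁ := even_of_isAlt h₁
  have heven₂ := even_of_isAlt h₂
  have hcard : n = n₁ * n₂ := by simpa using Fintype.card_congr e
  have ha : 2 ≤ n₁ := by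
    obtain ⟨k, hk⟩ := heven₁
    by_contra h
    have : n₁ = 0 := by omega
    rw [this, zero_mul] at hcard
    omega
  have hab : n₁ + 2 ≤ n₂ := by
    obtain ⟨k, hk⟩ := heven₁
    obtain ⟨l, hl⟩ := heven₂
    omega
  have hb : 5 ≤ n₂ := by
    by_contra h
    have h1 : n₁ ≤ 2 := by omega
    have : n₁ * n₂ ≤ 2 * 4 := Nat.mul_le_mul h1 (by omega)
    omega
  -- product maps and the stabiliser
  have hmem : ∀ g, S.IsT g → glOf g ∈ Cfsg.Geo.tensorProductSubgroup n₁ n₂ e P := by
    rintro g ⟨g₁, g₂, hg⟩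
    obtain ⟨u, hu⟩ : ∃ u : Fin n₁ → F, u ≠ 0 := ⟨Pi.single ⟨0, by omega⟩ 1, by simp⟩
    obtain ⟨w, hw⟩ : ∃ w : Fin n₂ → F, w ≠ 0 := ⟨Pi.single ⟨0, by omega⟩ 1, by simp⟩
    have h1 : Function.Injective g₁ := (injective_iff_map_eq_zero g₁).2 fun c hc => S.T_eq_zero hw
      ((LinearEquiv.map_eq_zero_iff g).1 (by rw [hg, hc, map_zero, LinearMap.zero_apply]))
    have h2 : Function.Injective g₂ := (injective_iff_map_eq_zero g₂).2 fun y hy => by
      by_contra hy0
      exact hu (S.T_eq_zero hy0 ((LinearEquiv.map_eq_zero_iff g).1 (by rw [hg, hy, map_zero])))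
    have hA : IsUnit (LinearMap.toMatrix' g₁) := Matrix.mulVec_injective_iff_isUnit.1 fun x y hxy => h1 (by
      simpa using hxy)
    have hB : IsUnit (LinearMap.toMatrix' g₂) := Matrix.mulVec_injective_iff_isUnit.1 fun x y hxy => h2 (by
      simpa using hxy)
    obtain ⟨y, hy, hyx⟩ := TensorEl.exists_mem e P hA.unit hB.unit
    convert hy using 1
    refine gl_ext fun X => ?_
    rw [glOf_mulVec]
    have := S.ext_T (f := g.toLinearMap) (g := Matrix.mulVecLin (y : Matrix (Fin n) (Fin n) F)) fun c z => by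
      show g (S.T c z) = (y : Matrix (Fin n) (Fin n) F) *ᵥ L (Matrix.vecMulVec c z)
      rw [hg, hyx, TensorEl.sandwich_apply, Matrix.mul_vecMulVec, Matrix.vecMulVec_mul, Matrix.vecMul_transpose,
        IsUnit.unit_spec, IsUnit.unit_spec, LinearMap.toMatrix'_mulVec, LinearMap.toMatrix'_mulVec]
      rfl
    exact LinearMap.congr_fun this X
  have hmem' : ∀ y ∈ Cfsg.Geo.tensorProductSubgroup n₁ n₂ e P, S.IsT (linOf y) := by
    intro y hy
    obtain ⟨A, B, hAB⟩ := TensorEl.exists_of_mem hy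
    refine ⟨Matrix.mulVecLin (A : Matrix (Fin n₁) (Fin n₁) F), Matrix.mulVecLin (B : Matrix (Fin n₂) (Fin n₂) F),
      fun c z => ?_⟩
    show (y : Matrix (Fin n) (Fin n) F) *ᵥ L (Matrix.vecMulVec c z) = _
    rw [hAB, TensorEl.sandwich_apply, Matrix.mul_vecMulVec, Matrix.vecMulVec_mul, Matrix.vecMul_transpose]
    rfl
  refine QMax.maximal_in_omegaGL (Q := QF) SQ _ inf_le_right ?_ fun K hK hKΩ hKne => ?_
  · obtain ⟨g, hg, hgT⟩ := TS.exists_not_isT (S := S) SQ ha hb
    refine ⟨_, hg, fun h => hgT ?_⟩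
    have := hmem' _ h.1
    rwa [show linOf (glOf g) = g from LinearEquiv.ext fun x => by simp] at this
  have O : S.Over (K.comap glOf) := by
    refine ⟨fun g hg x => ?_, fun u t => ?_, fun v t => ?_⟩
    · have := QMax.omegaGL_iso (Q := QF) SQ (hKΩ hg) x
      simpa using this
    · obtain ⟨g, hg, hgx⟩ := TS.right_mem_omega (S := S.swap) SQ u t
      refine ⟨g, hK ⟨hmem g ⟨LinearMap.id + t • S.r1 u u, LinearMap.id, fun c y => ?_⟩, hg⟩, fun c y => hgx y c⟩
      exact (hgx y c).trans (by simp [TS.swap, tv, smul_smul])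
    · obtain ⟨g, hg, hgx⟩ := TS.right_mem_omega (S := S) SQ v t
      refine ⟨g, hK ⟨hmem g ⟨LinearMap.id, LinearMap.id + t • (B₂.flip v).smulRight v, fun c y => ?_⟩, hg⟩, hgx⟩
      rw [hgx]
      simp [S, tv, smul_smul]
  have hne : ∃ x ∈ K.comap glOf, ¬ S.IsT x := by
    obtain ⟨g, hgK, hg⟩ := hKne
    refine ⟨linOf g, by rwa [Subgroup.mem_comap, glOf_linOf], fun h => hg ⟨?_, hKΩ hgK⟩⟩
    simpa [glOf_linOf] using hmem _ h
  have hq : n₁ = 2 → ∃ t : F, t ≠ 0 ∧ t ≠ 1 := by
    intro h2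
    by_contra hall
    push Not at hall
    refine hex ⟨le_antisymm ?_ Fintype.one_lt_card, h2⟩
    calc Fintype.card F = (Finset.univ : Finset F).card := rfl
      _ ≤ ({0, 1} : Finset F).card := Finset.card_le_card fun t _ => by
          by_cases ht : t = 0
          · simp [ht]
          · simp [hall t ht]
      _ ≤ 2 := Finset.card_le_two
  have hle : Cfsg.Geo.omegaGL ⇑QF ≤ K :=
    TS.omega_le (TS.rootsOne O ha hb hab hq hne) O (by omega) hb SQ fun g hg => hg
  exact fun u w hu hw => hle (QMax.glOf_siegel_mem_omega SQ hu hw)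

end Wrap

end Cfsg.Agent.SympTensor
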