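import Cfsg.Agent.Lib.SympTensor.Cross

/-!
From the special elements to root elements along the first factor.
-/

set_option autoImplicit false

namespace Cfsg.Agent.SympTensor

open Module Submodule
open Cfsg.Agent Cfsg.Agent.TransvMax Cfsg.Agent.ExtFieldMax

variable {F : Type*} [Field F] {ι : Type} [Fintype ι] [DecidableEq ι] {a b : ℕ}
  {Q : QuadraticForm F (ι → F)}

theorem tv_form {n : ℕ} {B : LinearMap.BilinForm F (Fin n → F)} (h : IsAlt B) (v : Fin n → F) (t : F)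
    (x y : Fin n → F) : B (tv B v t x) (tv B v t y) = B x y := by
  simp [tv, h.self, h.swap v y]
  ring

theorem tv_neg {n : ℕ} {B : LinearMap.BilinForm F (Fin n → F)} (h : IsAlt B) (v : Fin n → F) (t : F)
    (x : Fin n → F) : tv B v t (tv B v (-t) x) = x := by
  simp [tv, h.self]

theorem exists_func {n : ℕ} {B : LinearMap.BilinForm F (Fin n → F)} (h : IsAlt B)
    {W : Submodule F (Fin n → F)} {y : Fin n → F} (hy : y ∉ W) : ∃ p, B p y = 1 ∧ ∀ x ∈ W, B p x = 0 := by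
  obtain ⟨f, hf, hfy⟩ := exists_dual_one W hy
  obtain ⟨p, hp⟩ := h.exists_rep f
  exact ⟨p, by rw [hp, hfy], fun x hx => by rw [hp, hf x hx]⟩

theorem inH_comm_gen {V : Type*} [AddCommGroup V] [Module F V] {H : Subgroup (V ≃ₗ[F] V)} {A B : Module.End F V}
    (hA : InH H A) (hB : InH H B) (hAA : ∀ x, A (A x) = 0) (hBB : ∀ x, B (B x) = 0)
    (hABA : ∀ x, A (B (A x)) = 0) (hBAB : ∀ x, B (A (B x)) = 0) : InH H (A * B - B * A) :=
  (((hA.mul hB).mul (hA.neg hAA)).mul (hB.neg hBB)).congr fun x => by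
    simp [hAA, hBB, hABA, hBAB]
    abel

namespace TS

variable (S : TS Q a b) (H : Subgroup ((ι → F) ≃ₗ[F] (ι → F)))

/-- The cross element on a pair of lines. -/
def InC (y w : Fin b → F) (N : Module.End F (Fin a → F)) : Prop :=
  ∃ N' M, S.Adj N N' ∧ InH H (S.el y w N' + S.el w y N + S.el w w M)

/-- The maps occurring on every perpendicular pair. -/
def Occ (N : Module.End F (Fin a → F)) : Prop :=
  ∀ y w : Fin b → F, w ≠ 0 → S.B₂ w y = 0 → (∀ s : F, y ≠ s • w) → ∀ t : F, S.InC H y w (t • N)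

/-- The root elements along the first factor. -/
def RootsOne : Prop :=
  ∀ (u : Fin a → F) (w y : Fin b → F), S.B₂ w y = 0 → InH H (sg (Q := Q) (S.T u w) (S.T u y))

variable {S H}

theorem Adj.add {N₁ N₁' N₂ N₂' : Module.End F (Fin a → F)} (h₁ : S.Adj N₁ N₁') (h₂ : S.Adj N₂ N₂') :
    S.Adj (N₁ + N₂) (N₁' + N₂') := fun x d => by simp [h₁ x d, h₂ x d]

theorem Adj.smul {N N' : Module.End F (Fin a → F)} (h : S.Adj N N') (t : F) : S.Adj (t • N) (t • N') :=
  fun x d => by simp [h x d]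

theorem Adj.unique {N N' N'' : Module.End F (Fin a → F)} (h : S.Adj N N') (h' : S.Adj N N'') : N' = N'' :=
  LinearMap.ext fun x => sub_eq_zero.1 (S.h₁.nd _ fun d => by rw [map_sub, LinearMap.sub_apply, ← h, h', sub_self])

theorem adj_r1 (p q : Fin a → F) : S.Adj (S.r1 p q) (-S.r1 q p) := fun x d => by
  simp [S.h₁.swap d q]
  ring

theorem adj_one : S.Adj 1 1 := fun x d => rfl

theorem polar_T (c d : Fin a → F) (y z : Fin b → F) :
    QuadraticMap.polar (⇑Q) (S.T c y) (S.T d z) = S.B₁ c d * S.B₂ y z := by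
  rw [← QuadraticMap.polarBilin_apply_apply, S.polar]

theorem el_pair_zero {y w : Fin b → F} (h : S.B₂ w y = 0) (N₁ N₁' M₁ N₂ N₂' M₂ : Module.End F (Fin a → F))
    (X : ι → F) :
    (S.el y w N₁' + S.el w y N₁ + S.el w w M₁) ((S.el y w N₂' + S.el w y N₂ + S.el w w M₂) X) = 0 := by
  have h' : S.B₂ y w = 0 := by rw [S.h₂.swap, h, neg_zero]
  simp [el_el, S.h₂.self, h, h']

theorem InC.add {y w : Fin b → F} (hyw : S.B₂ w y = 0) {N₁ N₂ : Module.End F (Fin a → F)}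
    (h₁ : S.InC H y w N₁) (h₂ : S.InC H y w N₂) : S.InC H y w (N₁ + N₂) := by
  obtain ⟨N₁', M₁, a₁, i₁⟩ := h₁
  obtain ⟨N₂', M₂, a₂, i₂⟩ := h₂
  refine ⟨N₁' + N₂', M₁ + M₂, a₁.add a₂, (i₁.add i₂ (el_pair_zero hyw _ _ _ _ _ _)).congr fun X => ?_⟩
  simp [el_apply]
  abel

theorem Occ.add {N₁ N₂ : Module.End F (Fin a → F)} (h₁ : S.Occ H N₁) (h₂ : S.Occ H N₂) : S.Occ H (N₁ + N₂) :=
  fun y w hw hp hi t => by rw [smul_add]; exact (h₁ y w hw hp hi t).add hp (h₂ y w hw hp hi t)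

theorem Occ.smul {N : Module.End F (Fin a → F)} (h : S.Occ H N) (s : F) : S.Occ H (s • N) :=
  fun y w hw hp hi t => by rw [smul_smul]; exact h y w hw hp hi (t * s)

theorem Occ.sub {N₁ N₂ : Module.End F (Fin a → F)} (h₁ : S.Occ H N₁) (h₂ : S.Occ H N₂) : S.Occ H (N₁ - N₂) := by
  have := h₁.add (h₂.smul (-1 : F))
  rwa [show N₁ + (-1 : F) • N₂ = N₁ - N₂ from LinearMap.ext fun c => by simp [sub_eq_add_neg]] at this

theorem Occ.of_eq {N₁ N₂ : Module.End F (Fin a → F)} (h : S.Occ H N₁) (e : ∀ c, N₁ c = N₂ c) : S.Occ H N₂ :=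
  LinearMap.ext e ▸ h

theorem occ_one (O : S.Over H) : S.Occ H 1 := by
  intro y w hw hp hi t
  have h' : S.B₂ y w = 0 := by rw [S.h₂.swap, hp, neg_zero]
  refine ⟨t • 1, 0, adj_one.smul t, ?_⟩
  refine (((O.root (y + w) t).sub (O.root y t) (fun X => ?_) fun X => ?_).sub (O.root w t) (fun X => ?_)
    fun X => ?_).congr fun X => ?_
  all_goals simp [el_apply, S.ctr_T, S.h₂.self, hp, h']
  module

theorem Occ.conj (O : S.Over H) {N : Module.End F (Fin a → F)} (h : S.Occ H N) (u : Fin a → F) (t : F) :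
    S.Occ H ((LinearMap.id + t • S.r1 u u) ∘ₗ N ∘ₗ (LinearMap.id + (-t) • S.r1 u u)) := by
  set A : Module.End F (Fin a → F) := LinearMap.id + t • S.r1 u u with hA
  set A' : Module.End F (Fin a → F) := LinearMap.id + (-t) • S.r1 u u with hA'
  have hAv : ∀ c, A c = tv S.B₁ u t c := fun c => by simp [hA, tv, smul_smul]
  have hAv' : ∀ c, A' c = tv S.B₁ u (-t) c := fun c => by simp [hA', tv, smul_smul]
  have hAA' : ∀ c, A (A' c) = c := fun c => by rw [hAv, hAv', tv_neg S.h₁]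
  have hA'A : ∀ c, A' (A c) = c := fun c => by
    have := tv_neg S.h₁ u (-t) c
    rw [neg_neg] at this
    rw [hAv, hAv', this]
  have hiso : ∀ x d, S.B₁ (A x) (A d) = S.B₁ x d := fun x d => by rw [hAv, hAv, tv_form S.h₁]
  intro y w hw hp hi s
  obtain ⟨N', M, hadj, hin⟩ := h y w hw hp hi s
  obtain ⟨g, hg, hgx⟩ := O.exists_left u t
  refine ⟨A ∘ₗ N' ∘ₗ A', A ∘ₗ M ∘ₗ A', fun x d => ?_, (hin.conj hg).congr fun X => ?_⟩
  · obtain ⟨x₀, rfl⟩ : ∃ x₀, A x₀ = x := ⟨A' x, hAA' x⟩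
    obtain ⟨d₀, rfl⟩ : ∃ d₀, A d₀ = d := ⟨A' d, hAA' d⟩
    simp only [LinearMap.smul_apply, LinearMap.comp_apply, hA'A, ← map_smul A, hiso]
    exact hadj x₀ d₀
  · simp only [LinearMap.comp_apply, LinearEquiv.coe_coe, LinearMap.add_apply, map_add]
    rw [conj_el hgx (fun x y => rfl) y w (N := N') (N' := A ∘ₗ N' ∘ₗ A') (fun c => by
        show A (N' (A' (A c))) = A (N' c); rw [hA'A]),
      conj_el hgx (fun x y => rfl) w y (N := s • N) (N' := s • (A ∘ₗ N ∘ₗ A')) (fun c => by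
        show s • A (N (A' (A c))) = A (s • N c); rw [hA'A, map_smul]),
      conj_el hgx (fun x y => rfl) w w (N := M) (N' := A ∘ₗ M ∘ₗ A') (fun c => by
        show A (M (A' (A c))) = A (M c); rw [hA'A])]
    rfl

theorem occ_of_pair (O : S.Over H) {N : Module.End F (Fin a → F)} {y w : Fin b → F} (hw : w ≠ 0)
    (hp : S.B₂ w y = 0) (hi : ∀ s : F, y ≠ s • w) (h : ∀ t : F, S.InC H y w (t • N)) : S.Occ H N := by
  intro y' w' hw' hp' hi'
  refine perp_pairs_all S.h₂ (fun w y => ∀ t : F, S.InC H y w (t • N)) (fun v t w y hQ s => ?_) hw hp hi h hw' hp' hi'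
  obtain ⟨N', M, hadj, hin⟩ := hQ s
  obtain ⟨g, hg, τ, hτ, hτi, hgx⟩ := O.exists_right v t
  refine ⟨N', M, hadj, (hin.conj hg).congr fun X => ?_⟩
  simp only [LinearMap.comp_apply, LinearEquiv.coe_coe, LinearMap.add_apply, map_add, ← hτ]
  rw [conj_el hgx hτi y w (N' := N') (fun c => rfl), conj_el hgx hτi w y (N' := s • N) (fun c => rfl),
    conj_el hgx hτi w w (N' := M) (fun c => rfl)]

theorem Occ.prod (O : S.Over H) (hb : 5 ≤ b) {N₁ N₁' N₂ : Module.End F (Fin a → F)} (h₁ : S.Occ H N₁)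
    (h₂ : S.Occ H N₂) (hadj : S.Adj N₁ N₁') : S.Occ H (N₂ * N₁') := by
  obtain ⟨p, hp0⟩ : ∃ p : Fin b → F, p ≠ 0 := ⟨Pi.single ⟨0, by omega⟩ 1, by simp⟩
  obtain ⟨q, hqp, -, hq⟩ := S.h₂.exists_perp_two hb p p
  have hqs : ∀ s : F, q ≠ s • p := fun s hs => hq (by rw [hs]; exact smul_mem _ _ (subset_span (by simp)))
  refine occ_of_pair O (y := p) (w := q) (fun h => hqs 0 (by rw [h, zero_smul])) (by simpa using hqp)
    (fun s hs => ?_) fun t => ?_
  · by_cases hs0 : s = 0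
    · exact hp0 (by rw [hs, hs0, zero_smul])
    · exact hqs s⁻¹ (by rw [hs, smul_smul, inv_mul_cancel₀ hs0, one_smul])
  have hpq : S.B₂ p q = 0 := by rw [S.h₂.swap, hqp, neg_zero]
  obtain ⟨y, hyp, hyq, hy⟩ := S.h₂.exists_perp_two hb p q
  obtain ⟨y', hy'y, hy'W⟩ := exists_func S.h₂ hy
  have hy'p : S.B₂ y' p = 0 := hy'W p (subset_span (by simp))
  have hy'q : S.B₂ y' q = 0 := hy'W q (subset_span (by simp))
  have hpy : S.B₂ p y = 0 := by rw [S.h₂.swap, hyp, neg_zero]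
  have hqy : S.B₂ q y = 0 := by rw [S.h₂.swap, hyq, neg_zero]
  have hpy' : S.B₂ p y' = 0 := by rw [S.h₂.swap, hy'p, neg_zero]
  have hqy' : S.B₂ q y' = 0 := by rw [S.h₂.swap, hy'q, neg_zero]
  have hyy' : S.B₂ y y' = -1 := by rw [S.h₂.swap, hy'y]
  obtain ⟨A', M₁, hA', hin₁⟩ := h₁ y p hp0 hpy (fun s hs => hy (by rw [hs]; exact smul_mem _ _ (subset_span (by simp)))) t
  obtain ⟨B', M₂, hB', hin₂⟩ := h₂ y' q (fun h => hqs 0 (by rw [h, zero_smul])) hqy' (fun s hs => by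
    rw [hs, map_smul, LinearMap.smul_apply, hqy, smul_zero] at hy'y
    exact zero_ne_one hy'y) 1
  obtain rfl : A' = t • N₁' := hA'.unique (hadj.smul t)
  refine ⟨(t • N₁) * B', 0, fun x d => ?_, ?_⟩
  · have e1 := (hadj.smul t).symm
    have e2 := hB'
    simp only [one_smul] at e2
    rw [← smul_mul_assoc]
    show S.B₁ x (((t • N₂) * N₁') d) = _
    simp only [Module.End.mul_apply, LinearMap.smul_apply, map_smul, LinearMap.smul_apply]
    rw [e2, hadj.symm]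
  refine (inH_comm_gen hin₁ hin₂ (el_pair_zero hpy _ _ _ _ _ _) (el_pair_zero hqy' _ _ _ _ _ _)
    (fun X => ?_) fun X => ?_).congr fun X => ?_
  all_goals
    simp [el_el, el_apply, S.ctr_T, S.h₂.self, hpq, hqp, hyp, hyq, hpy, hqy, hy'p, hy'q, hpy', hqy', hy'y, hyy']

theorem Occ.adj (O : S.Over H) (hb : 5 ≤ b) {N N' : Module.End F (Fin a → F)} (h : S.Occ H N) (hN : S.Adj N N') :
    S.Occ H N' := by
  simpa using h.prod O hb (occ_one O) hN

theorem Occ.mul (O : S.Over H) (hb : 5 ≤ b) {N₁ N₂ : Module.End F (Fin a → F)} (h₁ : S.Occ H N₁)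
    (h₂ : S.Occ H N₂) : S.Occ H (N₂ * N₁) := by
  obtain ⟨N', hN'⟩ := S.exists_adj N₁
  exact (h₁.adj O hb hN').prod O hb h₂ hN'.symm

theorem delta_eq (N N' : Module.End F (Fin a → F)) (hN : S.Adj N N') (u : Fin a → F) (t : F) :
    (LinearMap.id + t • S.r1 u u) ∘ₗ N ∘ₗ (LinearMap.id + (-t) • S.r1 u u) - N =
      t • S.r1 u (N' u) - t • S.r1 (N u) u - (t * t * S.B₁ (N u) u) • S.r1 u u := by
  refine LinearMap.ext fun c => ?_
  have hc : S.B₁ (N c) u = S.B₁ c (N' u) := by rw [S.h₁.swap (N c), hN, S.h₁.swap, neg_neg]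
  simp [hc]
  module

theorem Occ.delta (O : S.Over H) {N N' : Module.End F (Fin a → F)} (h : S.Occ H N) (hN : S.Adj N N')
    (u : Fin a → F) (t : F) :
    S.Occ H (t • S.r1 u (N' u) - t • S.r1 (N u) u - (t * t * S.B₁ (N u) u) • S.r1 u u) := by
  rw [← delta_eq N N' hN u t]
  exact (h.conj O u t).sub h

theorem Occ.move_r1 (O : S.Over H) {x f p : Fin a → F} (h : S.Occ H (S.r1 x f - S.r1 p x)) (v : Fin a → F) (t : F) :
    S.Occ H (S.r1 (tv S.B₁ v t x) (tv S.B₁ v t f) - S.r1 (tv S.B₁ v t p) (tv S.B₁ v t x)) := by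
  refine (h.conj O v t).of_eq fun c => ?_
  simp [tv, S.h₁.swap v f, S.h₁.swap v x]
  module

theorem line_two (ha : a = 2) {c x : Fin a → F} (hc : c ≠ 0) (h : S.B₁ c x = 0) : ∃ s : F, x = s • c := by
  have h1 := finrank_ker_form S.h₁ hc
  have hle : (F ∙ c) ≤ LinearMap.ker (S.B₁ c) := by
    rw [Submodule.span_singleton_le_iff_mem]; exact S.h₁.self c
  have heq := Submodule.eq_of_le_of_finrank_le hle (by rw [finrank_span_singleton hc]; omega)
  have hx : x ∈ LinearMap.ker (S.B₁ c) := h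
  rw [← heq, Submodule.mem_span_singleton] at hx
  obtain ⟨s, hs⟩ := hx
  exact ⟨s, hs.symm⟩

theorem nonscalar_vec {N : Module.End F (Fin a → F)} (hN : ∀ s : F, N ≠ s • 1) :
    ∃ u, u ≠ 0 ∧ ∀ s : F, N u ≠ s • u := by
  by_contra hall
  push Not at hall
  obtain ⟨α, hα⟩ := LinearMap.exists_eq_smul_id_of_forall_notLinearIndependent (f := N) fun x hli => by
    have hx : x ≠ 0 := hli.ne_zero 0
    obtain ⟨s, hs⟩ := hall x hx
    exact (LinearIndependent.pair_iff' hx).1 hli s hs.symm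
  exact hN α hα

/-- A map of rank one. -/
theorem exists_rank_one (O : S.Over H) (ha : 3 ≤ a) (hb : 5 ≤ b) {N : Module.End F (Fin a → F)}
    (h : S.Occ H N) (hN : ∀ s : F, N ≠ s • 1) : ∃ p q, p ≠ 0 ∧ q ≠ 0 ∧ S.Occ H (S.r1 p q) := by
  obtain ⟨u, hu, hNu⟩ := nonscalar_vec hN
  obtain ⟨N', hN'⟩ := S.exists_adj N
  obtain ⟨f, hf⟩ : ∃ f, f = N' u := ⟨_, rfl⟩
  obtain ⟨p, hpdef⟩ : ∃ p, p = N u + S.B₁ (N u) u • u := ⟨_, rfl⟩
  have hpu : ∀ s : F, p ≠ s • u := fun s hs => hNu (s - S.B₁ (N u) u) (by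
    rw [sub_smul, ← hs, hpdef, add_sub_cancel_right])
  have hL : S.Occ H (S.r1 u f - S.r1 p u) := by
    refine (h.delta O hN' u 1).of_eq fun c => ?_
    simp [hf, hpdef]
    module
  by_cases hfu : ∃ s : F, f = s • u
  · obtain ⟨s, hs⟩ := hfu
    refine ⟨s • u - p, u, sub_ne_zero.2 fun h => hpu s h.symm, hu, ?_⟩
    refine (hL).of_eq fun c => ?_
    simp [hs]
    module
  push Not at hfu
  obtain ⟨z, hz, hzL⟩ := exists_ker_ne (n := a) (LinearMap.prod (S.B₁ f) (S.B₁ u)) (by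
    rw [Module.finrank_prod, Module.finrank_self]; omega)
  have hzf : S.B₁ f z = 0 := congrArg Prod.fst hzL
  have hzu : S.B₁ u z = 0 := congrArg Prod.snd hzL
  obtain ⟨f', p', hp', hL'⟩ : ∃ f' p', (∀ s : F, p' ≠ s • z) ∧ S.Occ H (S.r1 z f' - S.r1 p' z) := by
    refine vec_all S.h₁ (fun x => ∃ f' p', (∀ s : F, p' ≠ s • x) ∧ S.Occ H (S.r1 x f' - S.r1 p' x))
      (fun v t x hx => ?_) hu hz ⟨f, p, hpu, hL⟩
    obtain ⟨f', p', hp', hx'⟩ := hx
    refine ⟨_, tv S.B₁ v t p', fun s hs => hp' s ?_, hx'.move_r1 O v t⟩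
    have := congrArg (tv S.B₁ v (-t)) hs
    have h2 : ∀ x, tv S.B₁ v (-t) (tv S.B₁ v t x) = x := fun x => by
      have := tv_neg S.h₁ v (-t) x
      rwa [neg_neg] at this
    rw [h2, show tv S.B₁ v (-t) (s • tv S.B₁ v t x) = s • tv S.B₁ v (-t) (tv S.B₁ v t x) by
      simp only [tv, map_smul, LinearMap.smul_apply, smul_eq_mul]; module, h2] at this
    exact this
  obtain ⟨L, hLdef⟩ : ∃ L, L = S.r1 u f - S.r1 p u := ⟨_, rfl⟩
  rw [← hLdef] at hL
  obtain ⟨f'', p'', hne, hL''⟩ : ∃ f'' p'', L p'' ≠ 0 ∧ S.Occ H (S.r1 z f'' - S.r1 p'' z) := by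
    by_cases h0 : L p' = 0
    · obtain ⟨q, hq, hqor⟩ : ∃ q, (∀ s : F, q ≠ s • z) ∧ (q = u ∨ q = f) := by
        by_cases hc : ∀ s : F, u ≠ s • z
        · exact ⟨u, hc, Or.inl rfl⟩
        push Not at hc
        obtain ⟨s, hs⟩ := hc
        refine ⟨f, fun r hr => ?_, Or.inr rfl⟩
        have hs0 : s ≠ 0 := fun e => hu (by rw [hs, e, zero_smul])
        exact hfu (r * s⁻¹) (by rw [hr, hs, smul_smul, mul_assoc, inv_mul_cancel₀ hs0, mul_one])
      obtain ⟨m, hm1, hm2, hm3⟩ := S.h₁.exists_two hp' hq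
      have hLm : L m ≠ 0 := by
        intro hLm
        rw [hLdef] at hLm
        simp only [LinearMap.sub_apply, r1_apply, sub_eq_zero] at hLm
        have hmu : S.B₁ m u = 0 := by
          by_contra hmu
          exact hpu ((S.B₁ m u)⁻¹ * S.B₁ m f) (by rw [mul_smul, hLm, smul_smul, inv_mul_cancel₀ hmu, one_smul])
        rw [hmu, zero_smul, smul_eq_zero] at hLm
        rcases hqor with rfl | rfl
        · exact hm3 (by rw [S.h₁.swap, hmu, neg_zero])
        · exact hm3 (by rw [S.h₁.swap, hLm.resolve_right hu, neg_zero])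
      refine ⟨tv S.B₁ m 1 f', tv S.B₁ m 1 p', ?_, ?_⟩
      · rw [tv, one_mul, map_add, map_smul, h0, zero_add]
        exact smul_ne_zero hm2 hLm
      · have := hL'.move_r1 O m 1
        rwa [tv_fix hm1] at this
    · exact ⟨f', p', h0, hL'⟩
  refine ⟨-L p'', z, neg_ne_zero.2 hne, hz, ?_⟩
  refine (hL''.mul O hb hL).of_eq fun c => ?_
  simp [hLdef, Module.End.mul_apply, S.h₁.swap z f, S.h₁.swap z u, hzf, hzu]
  module

theorem exists_k_big (O : S.Over H) (ha : 3 ≤ a) (hb : 5 ≤ b) {N : Module.End F (Fin a → F)}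
    (h : S.Occ H N) (hN : ∀ s : F, N ≠ s • 1) : ∃ u, u ≠ 0 ∧ S.Occ H (S.r1 u u) := by
  obtain ⟨p, q, hp, hq, hpq⟩ := exists_rank_one O ha hb h hN
  have scaled : ∀ (p : Fin a → F) (s : F), p ≠ 0 → s ≠ 0 → S.Occ H (S.r1 p (s • p)) →
      ∃ u, u ≠ 0 ∧ S.Occ H (S.r1 u u) := fun p s hp hs h => ⟨p, hp, by
    refine (h.smul s⁻¹).of_eq fun c => ?_
    simp [smul_smul, ← mul_assoc, inv_mul_cancel₀ hs]⟩
  by_cases hd : ∃ s : F, q = s • p
  · obtain ⟨s, rfl⟩ := hd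
    exact scaled p s hp (fun e => hq (by rw [e, zero_smul])) hpq
  push Not at hd
  obtain ⟨z, hz, hqz, -⟩ := S.h₁.exists_two hd hd
  have hpz : S.Occ H (S.r1 p z) := by
    have h1 := ((hpq.conj O z 1).sub hpq).smul (S.B₁ q z)⁻¹
    refine (h1).of_eq fun c => ?_
    simp [hz, S.h₁.swap z q]
    match_scalars <;> field_simp <;> ring
  by_cases hd' : ∃ s : F, z = s • p
  · obtain ⟨s, rfl⟩ := hd'
    refine scaled p s hp (fun e => hqz (by rw [e, zero_smul, map_zero])) hpz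
  push Not at hd'
  obtain ⟨z', hz'p, hz'z, -⟩ := S.h₁.exists_two hd' hd'
  have hz'0 : z' ≠ 0 := fun e => hz'z (by rw [e, map_zero])
  have hall : S.Occ H (S.r1 z' p) := by
    refine perp_pairs_all S.h₁ (fun x y => S.Occ H (S.r1 x y)) (fun v t x y hxy => ?_) hp hz hd' hpz hz'0
      (by rw [S.h₁.swap, hz'p, neg_zero]) fun s hs => ?_
    · refine (hxy.conj O v t).of_eq fun c => ?_
      simp [tv, S.h₁.swap v y]
      module
    · have : S.B₁ z z' = 0 := by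
        by_cases hs0 : s = 0
        · exact absurd (by rw [hs, hs0, zero_smul]) hp
        · rw [show z' = s⁻¹ • p by rw [hs, smul_smul, inv_mul_cancel₀ hs0, one_smul], map_smul, S.h₁.swap, hz,
            neg_zero, smul_zero]
      exact hz'z this
  refine scaled p (S.B₁ z' z) hp (by rw [S.h₁.swap]; exact neg_ne_zero.2 hz'z) ?_
  refine (hall.mul O hb hpz).of_eq fun c => ?_
  simp [Module.End.mul_apply, smul_smul, mul_comm]

theorem exists_k_two (O : S.Over H) (ha : a = 2) (hq : ∃ t : F, t ≠ 0 ∧ t ≠ 1) {N : Module.End F (Fin a → F)}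
    (h : S.Occ H N) (hN : ∀ s : F, N ≠ s • 1) : ∃ u, u ≠ 0 ∧ S.Occ H (S.r1 u u) := by
  obtain ⟨u, hu, hNu⟩ := nonscalar_vec hN
  obtain ⟨N', hN'⟩ := S.exists_adj N
  obtain ⟨t, ht0, ht1⟩ := hq
  have hβ : S.B₁ (N u) u ≠ 0 := fun e => by
    obtain ⟨s, hs⟩ := line_two ha hu (by rw [S.h₁.swap, e, neg_zero] : S.B₁ u (N u) = 0)
    exact hNu s hs
  refine ⟨u, hu, ?_⟩
  have h1 := ((h.delta O hN' u t).sub ((h.delta O hN' u 1).smul t)).smul ((t - t * t) * S.B₁ (N u) u)⁻¹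
  refine (h1).of_eq fun c => ?_
  have hne : (t - t * t) * S.B₁ (N u) u ≠ 0 := mul_ne_zero (by
    rw [show t - t * t = t * (1 - t) by ring]
    exact mul_ne_zero ht0 (sub_ne_zero.2 (Ne.symm ht1))) hβ
  apply smul_right_injective _ hne
  simp only [LinearMap.smul_apply, smul_inv_smul₀ hne]
  simp [smul_smul]
  module

theorem k_all (O : S.Over H) {u : Fin a → F} (hu : u ≠ 0) (h : S.Occ H (S.r1 u u)) (p : Fin a → F) (hp : p ≠ 0) :
    S.Occ H (S.r1 p p) :=
  vec_all S.h₁ (fun x => S.Occ H (S.r1 x x)) (fun v t x hx => by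
    refine (hx.conj O v t).of_eq fun c => ?_
    simp [tv, S.h₁.swap v x]
    module) hu hp h

theorem hasBiv_of_k (O : S.Over H) (h3 : 3 ≤ a) (hb : 5 ≤ b) (hK : ∀ p, p ≠ 0 → S.Occ H (S.r1 p p)) : S.HasBiv H := by
  obtain ⟨u, hu⟩ : ∃ u : Fin a → F, u ≠ 0 := ⟨Pi.single ⟨0, by omega⟩ 1, by simp⟩
  obtain ⟨u', huu'⟩ := S.h₁.exists_pair_one hu
  have hu' : u' ≠ 0 := fun e => by rw [e, map_zero] at huu'; exact zero_ne_one huu'
  obtain ⟨w, hw⟩ : ∃ w : Fin b → F, w ≠ 0 := ⟨Pi.single ⟨0, by omega⟩ 1, by simp⟩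
  obtain ⟨y, hyw, -, hy⟩ := S.h₂.exists_perp_two hb w w
  have hys : y ∉ span F ({w} : Set (Fin b → F)) := fun h => hy (span_mono (by simp) h)
  obtain ⟨y', hy'y, hy'W⟩ := exists_func S.h₂ hys
  have hy'w : S.B₂ y' w = 0 := hy'W w (subset_span (by simp))
  have hwy : S.B₂ w y = 0 := by rw [S.h₂.swap, hyw, neg_zero]
  have hwy' : S.B₂ w y' = 0 := by rw [S.h₂.swap, hy'w, neg_zero]
  have hyy' : S.B₂ y y' = -1 := by rw [S.h₂.swap, hy'y]
  refine ⟨h3, w, u, u', hw, hu', fun s hs => ?_, fun t => ?_⟩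
  · rw [hs, map_smul, LinearMap.smul_apply, S.h₁.self, smul_zero] at huu'
    exact zero_ne_one huu'
  obtain ⟨A', M₁, hA', hin₁⟩ := hK u hu y w hw hwy
    (fun s hs => hys (by rw [hs]; exact smul_mem _ _ (subset_span (by simp)))) t
  obtain ⟨B', M₂, hB', hin₂⟩ := hK u' hu' y' w hw hwy' (fun s hs => by
    rw [hs, map_smul, LinearMap.smul_apply, hwy, smul_zero] at hy'y
    exact zero_ne_one hy'y) 1
  obtain rfl : A' = t • -S.r1 u u := hA'.unique ((adj_r1 u u).smul t)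
  obtain rfl : B' = (1 : F) • -S.r1 u' u' := hB'.unique ((adj_r1 u' u').smul 1)
  refine (inH_comm_gen hin₁ hin₂ (el_pair_zero hwy _ _ _ _ _ _) (el_pair_zero hwy' _ _ _ _ _ _)
    (fun X => ?_) fun X => ?_).congr fun X => ?_
  all_goals
    simp [el_el, el_apply, S.ctr_T, S.h₂.self, hwy, hwy', hyw, hy'w, hy'y, hyy', biv, huu', S.h₁.swap u' u]
  module

theorem rootsOne_of_k_two (O : S.Over H) (ha : a = 2) (hK : ∀ p, p ≠ 0 → S.Occ H (S.r1 p p)) :
    S.RootsOne H := by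
  intro u w y hp
  by_cases hu : u = 0
  · exact InH.zero.congr fun X => by simp [hu, sg]
  by_cases hw : w = 0
  · exact InH.zero.congr fun X => by simp [hw, sg]
  by_cases hi : ∃ s : F, y = s • w
  · obtain ⟨s, rfl⟩ := hi
    exact InH.zero.congr fun X => by simp [sg, smul_smul, mul_comm]
  push Not at hi
  obtain ⟨N', M, hadj, hin⟩ := hK u hu y w hw hp hi 1
  obtain rfl : N' = (1 : F) • -S.r1 u u := hadj.unique ((adj_r1 u u).smul 1)
  obtain ⟨z, hzw, hzW⟩ := exists_func S.h₂ (W := span F {y}) (y := w) (fun h => by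
    obtain ⟨s, hs⟩ := Submodule.mem_span_singleton.1 h
    by_cases hs0 : s = 0
    · exact hw (by rw [← hs, hs0, zero_smul])
    · exact hi s⁻¹ (by rw [← hs, smul_smul, inv_mul_cancel₀ hs0, one_smul]))
  have hzy : S.B₂ z y = 0 := hzW y (subset_span (by simp))
  have halt : ∀ c, S.B₁ c (M c) = 0 := by
    intro c
    obtain ⟨g, hg, hgx⟩ := id hin
    have h := O.iso g hg (S.T c z)
    have hyw : S.B₂ y w = 0 := by rw [S.h₂.swap, hp, neg_zero]
    rw [hgx] at h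
    simp only [LinearMap.add_apply, el_apply, S.ctr_T, hzw, hzy, zero_smul, one_smul, map_zero,
      LinearMap.zero_apply, add_zero, QuadraticMap.map_add Q, S.pure, zero_add, ← QuadraticMap.polarBilin_apply_apply,
      map_add, S.polar, hyw, mul_zero, mul_one] at h
    exact h
  obtain ⟨m, rfl⟩ : ∃ m : F, M = m • 1 := by
    by_contra hall
    push Not at hall
    obtain ⟨x, hx, hMx⟩ := nonscalar_vec hall
    obtain ⟨s, hs⟩ := line_two ha hx (halt x)
    exact hMx s hs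
  refine (hin.sub (O.root w m) (fun X => ?_) fun X => ?_).congr fun X => ?_
  · simp [el_el, S.h₂.self]
  · simp [el_el, S.h₂.self, hp]
  · simp [sg_T, el_apply]
    abel

theorem conj_sg (O : S.Over H) {g : (ι → F) ≃ₗ[F] (ι → F)} (hg : g ∈ H) (x y X : ι → F) :
    g (sg (Q := Q) x y (g.symm X)) = sg (Q := Q) (g x) (g y) X := by
  simp [sg, O.pB_symm_eq hg]

theorem sg_sg_zero {x y x' y' : ι → F} (h1 : pB Q x' y = 0) (h2 : pB Q x' x = 0) (h3 : pB Q y' y = 0)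
    (h4 : pB Q y' x = 0) (X : ι → F) : sg (Q := Q) x y (sg (Q := Q) x' y' X) = 0 := by
  simp [sg, h1, h2, h3, h4]

theorem rootsOne_of_biv (O : S.Over H) (h : S.HasBiv H) : S.RootsOne H := by
  obtain ⟨ha, w₀, u₀, v₀, hw₀, hv₀, hi₀, h₀⟩ := h
  have hall₀ : ∀ (w : Fin b → F) (t : F), InH H (S.el w w (t • S.biv u₀ v₀)) := by
    intro w t
    by_cases hw : w = 0
    · exact InH.zero.congr fun X => by simp [hw, el_apply]
    refine vec_all S.h₂ (fun x => InH H (S.el x x (t • S.biv u₀ v₀))) (fun v s x hx => ?_) hw₀ hw (h₀ t)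
    obtain ⟨g, hg, τ, hτ, hτi, hgx⟩ := O.exists_right v s
    refine (hx.conj hg).congr fun X => ?_
    rw [← hτ]
    exact conj_el hgx hτi x x (N := t • S.biv u₀ v₀) (N' := t • S.biv u₀ v₀) (fun c => rfl) X
  let Bv : (Fin a → F) → (Fin a → F) → Prop := fun p q => ∀ (w : Fin b → F) (t : F), InH H (S.el w w (t • S.biv p q))
  have hconj : ∀ p q, Bv p q → ∀ v s, Bv (tv S.B₁ v s p) (tv S.B₁ v s q) := by
    intro p q hpq v s w t
    obtain ⟨g, hg, hgx⟩ := O.exists_left v s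
    refine ((hpq w t).conj hg).congr fun X => ?_
    refine conj_el hgx (fun x y => rfl) w w (fun c => ?_) X
    simp [biv, tv, S.h₁.self, S.h₁.swap v p, S.h₁.swap v q]
    module
  have hlin : ∀ p p' q, Bv p q → Bv p' q → Bv (p - p') q := by
    intro p p' q h1 h2 w t
    refine ((h1 w t).sub (h2 w t) (fun X => ?_) fun X => ?_).congr fun X => ?_
    · simp [el_el, S.h₂.self]
    · simp [el_el, S.h₂.self]
    · simp [el_apply, biv]
      module
  have hsc : ∀ p q (s : F), Bv p q → Bv (s • p) q := fun p q s h1 w t => (h1 w (t * s)).congr fun X => by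
    simp [el_apply, biv, smul_smul]
    module
  have hperp₀ : ∀ m, S.B₁ v₀ m = 0 → Bv m v₀ := by
    have h1 : ∀ m, S.B₁ v₀ m = 0 → S.B₁ u₀ m ≠ 0 → Bv m v₀ := by
      intro m hm hum
      have h2 := hlin _ _ _ (hconj u₀ v₀ hall₀ m 1) (fun w t => by rw [tv_fix hm]; exact hall₀ w t)
      rw [tv_fix hm] at h2
      have h3 := hsc _ _ (S.B₁ u₀ m)⁻¹ h2
      rwa [tv, one_mul, add_sub_cancel_left, smul_smul, inv_mul_cancel₀ hum, one_smul] at h3
    intro m hm
    by_cases hum : S.B₁ u₀ m = 0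
    · obtain ⟨m₀, hm₀, hum₀, -⟩ := S.h₁.exists_two hi₀ hi₀
      have := hlin _ _ _ (h1 (m + m₀) (by rw [map_add, hm, hm₀, add_zero]) (by rwa [map_add, hum, zero_add]))
        (h1 m₀ hm₀ hum₀)
      rwa [add_sub_cancel_right] at this
    · exact h1 m hm hum
  have hperp : ∀ v, v ≠ 0 → ∀ m, S.B₁ v m = 0 → Bv m v := by
    intro v hv
    refine vec_all S.h₁ (fun x => ∀ m, S.B₁ x m = 0 → Bv m x) (fun v s x hx m hm => ?_) hv₀ hv hperp₀
    have h2 := tv_form S.h₁ v s x (tv S.B₁ v (-s) m)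
    rw [tv_neg S.h₁, hm] at h2
    have := hconj _ _ (hx _ h2.symm) v s
    rwa [tv_neg S.h₁] at this
  intro u z w hp
  by_cases hu : u = 0
  · exact InH.zero.congr fun X => by simp [hu, sg]
  -- a frame
  obtain ⟨r, hru⟩ := S.h₁.exists_pair_one hu
  obtain ⟨x, hx, hx0⟩ : ∃ x, S.B₁ u x = 0 ∧ ∀ s : F, x ≠ s • u := by
    by_contra hall
    push Not at hall
    have hle : LinearMap.ker (S.B₁ u) ≤ F ∙ u := fun x hx => by
      obtain ⟨s, hs⟩ := hall x hx
      exact Submodule.mem_span_singleton.2 ⟨s, hs.symm⟩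
    have h1 := Submodule.finrank_mono hle
    rw [finrank_span_singleton hu] at h1
    have h2 := finrank_ker_form S.h₁ hu
    omega
  obtain ⟨x', hx'x, hx'W⟩ := exists_func S.h₁ (W := span F {u}) (y := x) (fun h => by
    obtain ⟨s, hs⟩ := Submodule.mem_span_singleton.1 h
    exact hx0 s hs.symm)
  have hx'u : S.B₁ x' u = 0 := hx'W u (subset_span (by simp))
  have hux' : S.B₁ u x' = 0 := by rw [S.h₁.swap, hx'u, neg_zero]
  have hxx' : S.B₁ x x' = -1 := by rw [S.h₁.swap, hx'x]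
  have hxu : S.B₁ x u = 0 := by rw [S.h₁.swap, hx, neg_zero]
  have hx'0 : x' ≠ 0 := fun e => by rw [e, map_zero, LinearMap.zero_apply] at hx'x; exact zero_ne_one hx'x
  have main : ∀ w z, S.B₂ w z ≠ 0 → InH H (sg (Q := Q) (S.T u z) (S.T u w)) := by
    intro w z hwz
    have h0 : InH H (sg (Q := Q) (S.T x w) (S.T u w)) := (hperp u hu x hx w 1).congr fun X => by
      simp [sg_T, el_apply, biv]
    obtain ⟨g, hg, hgx⟩ := hperp x' hx'0 u hx'u z (-(S.B₂ w z)⁻¹)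
    have hgw : g (S.T x w) = S.T x w + S.T u z := by
      rw [hgx]; simp [el_apply, biv, S.ctr_T, hxu, hxx', smul_smul, hwz]
    have hgu : g (S.T u w) = S.T u w := by
      rw [hgx]; simp [el_apply, biv, S.ctr_T, S.h₁.self, hux']
    have h1 : InH H (sg (Q := Q) (S.T x w + S.T u z) (S.T u w)) := (h0.conj hg).congr fun X => by
      rw [LinearMap.comp_apply, LinearMap.comp_apply, LinearEquiv.coe_coe, LinearEquiv.coe_coe, conj_sg O hg,
        hgw, hgu]
    refine (h1.sub h0 (sg_sg_zero ?_ ?_ ?_ ?_) (sg_sg_zero ?_ ?_ ?_ ?_)).congr fun X => ?_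
    all_goals simp [polar_T, S.pure, S.h₁.self, hx, hxu, sg]
    module
  by_cases hw : w = 0
  · exact InH.zero.congr fun X => by simp [hw, sg]
  obtain ⟨z₁, hz₁⟩ := S.h₂.exists_pair_one hw
  refine ((main w (z + z₁) ?_).sub (main w z₁ (by rw [hz₁]; exact one_ne_zero)) (sg_sg_zero ?_ ?_ ?_ ?_)
    (sg_sg_zero ?_ ?_ ?_ ?_)).congr fun X => ?_
  · rw [map_add, hz₁, S.h₂.swap w z, hp, neg_zero, zero_add]; exact one_ne_zero
  all_goals simp [polar_T, S.pure, S.h₁.self, sg]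
  module

theorem rootsOne (O : S.Over H) (ha : 2 ≤ a) (hb : 5 ≤ b) (hab : a + 2 ≤ b)
    (hq : a = 2 → ∃ t : F, t ≠ 0 ∧ t ≠ 1) (hne : ∃ e ∈ H, ¬ S.IsT e) : S.RootsOne H := by
  rcases biv_or_cross (by omega) hb hab O hne with h | ⟨y, w, N, N', hw, hp, hi, hadj, hN, hin⟩
  · exact rootsOne_of_biv O h
  · have hocc : S.Occ H N := occ_of_pair O hw hp hi fun t => by
      obtain ⟨M, hM⟩ := hin t
      exact ⟨t • N', M, hadj.smul t, hM⟩
    by_cases ha2 : a = 2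
    · obtain ⟨u, hu, hK⟩ := exists_k_two O ha2 (hq ha2) hocc hN
      exact rootsOne_of_k_two O ha2 (k_all O hu hK)
    · obtain ⟨u, hu, hK⟩ := exists_k_big O (by omega) hb hocc hN
      exact rootsOne_of_biv O (hasBiv_of_k O (by omega) hb (k_all O hu hK))

end TS

end Cfsg.Agent.SympTensor
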